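import Cfsg.Agent.Fi22Aut.Transfer
import Cfsg.Agent.Fi22Two.Inner

/-! The centraliser of the image of `z` in the subgroup of index two. -/

set_option autoImplicit false
set_option maxRecDepth 20000
set_option Elab.async false

open Finset Cfsg Cfsg.Agent
open scoped commutatorElement
open Cfsg.Agent.ThreeTrans.SU32 (F4)

namespace Cfsg.Agent.Fi22Aut

open LargeFischer

/-- a normal subgroup of the automorphism group is trivial or contains the inner automorphisms -/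
theorem psp_normal_cases (N : Subgroup (MulAut (Cfsg.PSp 2 (ZMod 3)))) [N.Normal] :
    N = ⊥ ∨ (MulAut.conj : Cfsg.PSp 2 (ZMod 3) →* _).range ≤ N := by
  obtain ⟨-, -, -, hs, hi⟩ := Fi22Two.mulAut_psp
  rcases (inferInstance : (N.comap (MulAut.conj : Cfsg.PSp 2 (ZMod 3) →* _)).Normal).eq_bot_or_eq_top with h | h
  · left
    refine (Subgroup.eq_bot_iff_forall _).2 fun a ha => MulEquiv.ext fun x => ?_
    have e : MulAut.conj (a x * x⁻¹) = a * (MulAut.conj x * a⁻¹ * (MulAut.conj x)⁻¹) := by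
      refine MulEquiv.ext fun y => ?_
      simp [MulAut.mul_apply, mul_assoc]
    have hm : a x * x⁻¹ ∈ N.comap (MulAut.conj : Cfsg.PSp 2 (ZMod 3) →* _) := by
      rw [Subgroup.mem_comap, e]
      exact N.mul_mem ha ((inferInstance : N.Normal).conj_mem _ (N.inv_mem ha) _)
    rw [h, Subgroup.mem_bot, mul_inv_eq_one] at hm
    exact hm
  · right
    rintro _ ⟨x, rfl⟩
    exact h.ge (Subgroup.mem_top x)

variable {G : Type*} [Group G] [Finite G] {z : G}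
  {Q : Subgroup (Subgroup.centralizer ({z} : Set G))} [Q.Normal]

namespace Setup

variable (X : Setup z Q)

/-- the image of `z` in the subgroup of index two -/
noncomputable def zk : ↥X.Kb := ⟨X.zb, X.ζ_Kb⟩

/-- its centraliser there -/
noncomputable abbrev Cz : Subgroup ↥X.Kb := Subgroup.centralizer {X.zk}

/-- the stabiliser of the class modulo `Q` -/
abbrev Sb : Subgroup (Subgroup.centralizer ({z} : Set G) ⧸ Q) := (X.D.fixer v0).map (QuotientGroup.mk' Q)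

theorem Sb_iso : Nonempty (↥X.Sb ≃* MulAut (Cfsg.PSp 2 (ZMod 3))) := by
  obtain ⟨e⟩ := X.D.stab_iso_srep X.hF
  obtain ⟨eO⟩ := ThreeTrans.mulAut_psu_four_equiv F4.card_eq
  obtain ⟨e4⟩ := Classical.U42.psu_four_two (F := F4) (K := ZMod 3) F4.card_eq (ZMod.card 3)
  exact ⟨(e.trans eO.symm).trans (MulAut.congr e4)⟩

/-- reduction modulo `Q` -/
noncomputable def toSb : ↥X.Ct →* ↥X.Sb :=
  MonoidHom.mk' (fun h => ⟨(h.1 : _ ⧸ Q), ⟨h.1, X.Ct_fix h.2, rfl⟩⟩) fun _ _ => rfl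

theorem toSb_surj : Function.Surjective X.toSb := by
  rintro ⟨_, s, hs, rfl⟩
  obtain ⟨r, hr⟩ := X.surj_Ct (s := s) hs
  refine ⟨⟨_, hr⟩, Subtype.ext ?_⟩
  show (((r : Subgroup.centralizer ({z} : Set G)) * s : Subgroup.centralizer ({z} : Set G)) : _ ⧸ Q) = (s : _ ⧸ Q)
  rw [QuotientGroup.mk_mul, (QuotientGroup.eq_one_iff _).2 r.2, one_mul]

/-- the map to the automorphism group -/
noncomputable def toAut : ↥X.Ct →* MulAut (Cfsg.PSp 2 (ZMod 3)) :=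
  (Classical.choice X.Sb_iso).toMonoidHom.comp X.toSb

theorem toAut_one {h : ↥X.Ct} : X.toAut h = 1 ↔ (h.1 : Subgroup.centralizer ({z} : Set G)) ∈ Q :=
  (MulEquiv.map_eq_one_iff _).trans (Subtype.ext_iff.trans (QuotientGroup.eq_one_iff _))

theorem ψ_le_toAut : X.ψ.ker ≤ X.toAut.ker := by
  intro h hh
  rw [MonoidHom.mem_ker, X.toAut_one]
  rcases X.ψ_eq (a := 1) (b := h) (by rw [map_one]; exact (MonoidHom.mem_ker.1 hh).symm) with e | e
  · rw [e]; exact Q.one_mem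
  · rw [e, Subgroup.coe_one, one_mul]; exact X.t.2

/-- on the centraliser of the image -/
noncomputable def κ : ↥X.Hb →* MulAut (Cfsg.PSp 2 (ZMod 3)) :=
  X.ψ.liftOfSurjective X.ψ_surj ⟨X.toAut, X.ψ_le_toAut⟩

theorem κ_ψ (h : ↥X.Ct) : X.κ (X.ψ h) = X.toAut h :=
  MonoidHom.liftOfRightInverse_comp_apply _ _ _ ⟨X.toAut, X.ψ_le_toAut⟩ h

/-- the inclusion into the centraliser of the image -/
noncomputable def toHb : ↥X.Cz →* ↥X.Hb :=
  MonoidHom.mk' (fun x => ⟨(x.1 : X.Cb), Subgroup.mem_centralizer_singleton_iff.2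
    (congrArg Subtype.val (Subgroup.mem_centralizer_singleton_iff.1 x.2))⟩) fun _ _ => rfl

theorem mem_Cz {x : ↥X.Hb} (hx : (x : X.Cb) ∈ X.Kb) : (⟨x.1, hx⟩ : ↥X.Kb) ∈ X.Cz :=
  Subgroup.mem_centralizer_singleton_iff.2 (Subtype.ext (Subgroup.mem_centralizer_singleton_iff.1 x.2))

/-- the map to the automorphism group on the smaller centraliser -/
noncomputable def ρ : ↥X.Cz →* MulAut (Cfsg.PSp 2 (ZMod 3)) := X.κ.comp X.toHb

/-- the part of `Q` -/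
noncomputable def JQ : Subgroup ↥X.CQ := X.Kb.comap X.qb

theorem mem_JQ {q : ↥X.CQ} : q ∈ X.JQ ↔ bp v1 (X.cv q.1) = 0 := X.qb_Kb_iff q

/-- into the centraliser -/
noncomputable def θ : ↥X.JQ →* ↥X.Cz :=
  MonoidHom.mk' (fun q => ⟨⟨X.qb q.1, q.2⟩, X.mem_Cz (x := X.ψ (X.jt q.1)) q.2⟩)
    fun a b => Subtype.ext (Subtype.ext (map_mul X.qb a.1 b.1))

theorem θ_eq {a b : ↥X.JQ} (h : X.θ a = X.θ b) : b.1.1 = a.1.1 ∨ b.1.1 = a.1.1 * X.t :=
  X.qb_eq (congrArg (fun x : ↥X.Cz => ((x : ↥X.Kb) : X.Cb)) h)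

theorem ρ_surj : Function.Surjective X.ρ := by
  intro a
  obtain ⟨h, rfl⟩ : ∃ h, X.toAut h = a := ((Classical.choice X.Sb_iso).surjective.comp X.toSb_surj) a
  by_cases hk : (X.ψ h : X.Cb) ∈ X.Kb
  · exact ⟨⟨⟨_, hk⟩, X.mem_Cz hk⟩, X.κ_ψ h⟩
  · set s' : ↥X.Ct := X.jt ⟨X.s, X.s_CQ⟩ with hs'
    have hk' : (X.ψ (h * s') : X.Cb) ∈ X.Kb := by
      rw [map_mul, Subgroup.coe_mul, Subgroup.mul_mem_iff_of_index_two X.Kb_index]
      exact iff_of_false hk X.s_not_Kb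
    refine ⟨⟨⟨_, hk'⟩, X.mem_Cz hk'⟩, ?_⟩
    show X.κ (X.ψ (h * s')) = _
    rw [X.κ_ψ, map_mul, (X.toAut_one (h := s')).2 X.s.2, mul_one]

theorem ρ_ker : X.ρ.ker = X.θ.range := by
  ext x
  rw [MonoidHom.mem_ker]
  constructor
  · intro hx
    obtain ⟨h, hh⟩ := X.ψ_surj (X.toHb x)
    have hQ : h.1 ∈ Q := X.toAut_one.1 (by rw [← X.κ_ψ, hh]; exact hx)
    let q : ↥X.CQ := ⟨⟨h.1, hQ⟩, h.2⟩
    have hq : X.qb q = ((x : ↥X.Kb) : X.Cb) := congrArg Subtype.val hh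
    exact ⟨⟨q, show X.qb q ∈ X.Kb from hq ▸ x.1.2⟩, Subtype.ext (Subtype.ext hq)⟩
  · rintro ⟨q, rfl⟩
    show X.κ (X.ψ (X.jt q.1)) = 1
    rw [X.κ_ψ, X.toAut_one]
    exact q.1.1.2

theorem card_CQ : Nat.card ↥X.CQ = 2 ^ 12 := by
  let f : ↥Q →* Multiplicative (ZMod 2) := MonoidHom.mk' (fun q => Multiplicative.ofAdd (bp v0 (X.cv q)))
    fun a b => by rw [X.cv_mul, bp_add_right]; rfl
  have hf : Function.Surjective f := by
    intro a
    rcases (show ∀ a : Multiplicative (ZMod 2), a = 1 ∨ a = Multiplicative.ofAdd 1 by decide) a with rfl | rfl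
    · exact ⟨1, map_one f⟩
    · refine ⟨LargeFischer.lift X.D.F (Pi.single (0 : Fin 6) ((0, 1) : W4)), ?_⟩
      show Multiplicative.ofAdd (bp v0 (X.cv _)) = _
      rw [X.cv_lift]
      exact congrArg _ (show bp v0 (Pi.single (0 : Fin 6) ((0, 1) : W4)) = 1 by decide +kernel)
  have hk : f.ker = X.CQ := Subgroup.ext fun q => by
    rw [MonoidHom.mem_ker, X.mem_CQ]; exact Iff.rfl
  have h := f.ker.card_mul_index
  rw [Subgroup.index_ker, MonoidHom.range_eq_top.2 hf, Subgroup.card_top, X.D.b.card, hk,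
    show Nat.card (Multiplicative (ZMod 2)) = 2 by rw [Nat.card_eq_fintype_card]; rfl] at h
  omega

theorem card_JQ : Nat.card ↥X.JQ = 2 ^ 11 := by
  have hi : X.JQ.index = 2 := by
    rw [Subgroup.index_eq_two_iff]
    refine ⟨⟨X.s, X.s_CQ⟩, fun b => ?_⟩
    simp only [JQ, Subgroup.mem_comap, map_mul, Subgroup.mul_mem_iff_of_index_two X.Kb_index, X.s_not_Kb,
      iff_false]
    exact xor_not_left.2 Iff.rfl
  have h := X.JQ.card_mul_index
  rw [hi, X.card_CQ] at h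
  omega

theorem t_JQ : ∃ h : X.t ∈ X.CQ, (⟨X.t, h⟩ : ↥X.CQ) ∈ X.JQ := by
  have h : X.t ∈ X.CQ := X.t_mem
  exact ⟨h, X.mem_JQ.2 (by rw [X.cv_t, bp_symm]; exact sigma_facts.2.2.2.2.2.2.2.2.2.2.2.2.2.2.2.1)⟩

/-- the kernel is the involution -/
theorem θ_ker (q : ↥X.JQ) : X.θ q = 1 ↔ q.1.1 = 1 ∨ q.1.1 = X.t := by
  constructor
  · intro h
    rcases X.θ_eq (a := 1) (b := q) (by rw [map_one, h]) with e | e
    · exact Or.inl e
    · exact Or.inr (e.trans (one_mul _))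
  · intro h
    refine Subtype.ext (Subtype.ext ?_)
    show X.qb q.1 = 1
    rcases h with e | e
    · rw [show q.1 = 1 from Subtype.ext e, map_one]
    · exact (QuotientGroup.eq_one_iff _).2 (Subgroup.mem_subgroupOf.2 (by
        show ((q.1.1 : Subgroup.centralizer ({z} : Set G)) : G) ∈ Subgroup.zpowers X.tG
        rw [e]; exact Subgroup.mem_zpowers _))

theorem card_ker_θ (S : Subgroup ↥X.JQ) (hS : ∀ q : ↥X.JQ, X.θ q = 1 → q ∈ S) :
    Nat.card ↥(S.map X.θ) * 2 = Nat.card ↥S := by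
  obtain ⟨h1, h2⟩ := X.t_JQ
  set tq : ↥X.JQ := ⟨⟨X.t, h1⟩, h2⟩
  have ht1 : tq ≠ 1 := fun e => X.t_ne.1 (congrArg (fun q : ↥X.JQ => q.1.1) e)
  have hk : (X.θ.comp S.subtype).ker = Subgroup.zpowers ⟨tq, hS _ ((X.θ_ker tq).2 (Or.inr rfl))⟩ := by
    refine le_antisymm (fun q hq => ?_) (Subgroup.zpowers_le.2 ((X.θ_ker tq).2 (Or.inr rfl)))
    rcases (X.θ_ker q.1).1 hq with e | e
    · rw [show q = 1 from Subtype.ext (Subtype.ext (Subtype.ext e))]; exact one_mem _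
    · rw [show q = ⟨tq, hS _ ((X.θ_ker tq).2 (Or.inr rfl))⟩ from Subtype.ext (Subtype.ext (Subtype.ext e))]
      exact Subgroup.mem_zpowers _
  have h := (X.θ.comp S.subtype).ker.card_mul_index
  rw [Subgroup.index_ker, MonoidHom.range_comp, Subgroup.range_subtype, hk, Nat.card_zpowers,
    orderOf_eq_prime (p := 2) (by
      rw [sq]; exact Subtype.ext (Subtype.ext (Subtype.ext X.t_sq))) fun e => ht1 (congrArg Subtype.val e)] at h
  omega

theorem card_R : Nat.card ↥X.θ.range = 2 ^ 10 := by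
  have h := X.card_ker_θ ⊤ fun _ _ => Subgroup.mem_top _
  rw [← MonoidHom.range_eq_map, Subgroup.card_top, X.card_JQ] at h
  omega

theorem pCore_Cz : pCore 2 ↥X.Cz = X.θ.range := by
  haveI : Fact (Nat.Prime 2) := ⟨Nat.prime_two⟩
  refine le_antisymm ?_ ?_
  · rw [← X.ρ_ker, ← Subgroup.map_eq_bot_iff]
    haveI : ((pCore 2 ↥X.Cz).map X.ρ).Normal := (Core.pCore_normal (p := 2)).map _ X.ρ_surj
    refine (psp_normal_cases _).resolve_right fun h => ?_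
    obtain ⟨-, -, -, -, hi⟩ := Fi22Two.mulAut_psp
    obtain ⟨k, hk⟩ := ((Core.pCore_isPGroup (p := 2) (G := ↥X.Cz)).map X.ρ).exists_card_eq
    have hd := Subgroup.card_dvd_of_le h
    rw [hk, ← Nat.card_congr (MonoidHom.ofInjective hi).toEquiv, U62Rec.card_psp_three] at hd
    have := (show Nat.Prime 3 by norm_num).dvd_of_dvd_pow ((show 3 ∣ 25920 by norm_num).trans hd)
    norm_num at this
  · haveI : X.θ.range.Normal := X.ρ_ker ▸ MonoidHom.normal_ker _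
    exact Core.le_pCore (IsPGroup.of_card X.card_R)

/-- commuting images come from commuting elements -/
theorem comm_of_θ {a b : ↥X.JQ} (h : Commute (X.θ a) (X.θ b)) : a.1.1 * b.1.1 = b.1.1 * a.1.1 := by
  have e : X.θ b = X.θ (a * b * a⁻¹) := by rw [map_mul, map_mul, map_inv, h.eq, mul_inv_cancel_right]
  have key : MulAut.conjNormal (a.1.1 : Subgroup.centralizer ({z} : Set G)) b.1.1 = (a * b * a⁻¹ : ↥X.JQ).1.1 :=
    Subtype.ext (by simp [MulAut.conjNormal_apply])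
  refine X.comm_of_mod ?_
  rw [key]
  exact X.θ_eq e

/-- the complement -/
noncomputable def EQ : Subgroup ↥X.JQ :=
  (MonoidHom.mk' (fun q : ↥X.JQ => Multiplicative.ofAdd ((X.cv q.1.1) 0).2) fun a b => by
    show _ = Multiplicative.ofAdd _ * Multiplicative.ofAdd _
    rw [Subgroup.coe_mul, Subgroup.coe_mul, X.cv_mul]; rfl).ker

theorem mem_EQ {q : ↥X.JQ} : q ∈ X.EQ ↔ ((X.cv q.1.1) 0).2 = 0 := by
  rw [EQ, MonoidHom.mem_ker]; exact Iff.rfl

theorem lift_JQ {v : Vec6} (h0 : bp v0 v = 0) (h1 : bp v1 v = 0) :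
    ∃ q : ↥X.JQ, q.1.1 = LargeFischer.lift X.D.F v := by
  have h0' : LargeFischer.lift X.D.F v ∈ X.CQ := X.mem_CQ.2 (by rw [X.cv_lift]; exact h0)
  have h1' : (⟨LargeFischer.lift X.D.F v, h0'⟩ : ↥X.CQ) ∈ X.JQ := X.mem_JQ.2 (by
    show bp v1 (X.cv (LargeFischer.lift X.D.F v)) = 0
    rw [X.cv_lift]; exact h1)
  exact ⟨⟨_, h1'⟩, rfl⟩

theorem u_JQ : ∃ q : ↥X.JQ, q.1.1 = X.u ∧ ((X.cv q.1.1) 0).2 = 1 := by
  obtain ⟨q, hq⟩ := X.lift_JQ (v := v1) (by exact sigma_facts.2.2.2.2.2.2.2.2.2.2.2.2.2.2.2.1)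
    sigma_facts.2.2.2.2.2.2.2.2.2.2.2.2.2.2.2.2.2
  exact ⟨q, hq, by rw [hq, X.cv_lift]; decide +kernel⟩

theorem card_EQ : Nat.card ↥X.EQ = 2 ^ 10 := by
  obtain ⟨qu, -, hu⟩ := X.u_JQ
  have hi : X.EQ.index = 2 := by
    rw [Subgroup.index_eq_two_iff]
    refine ⟨qu, fun b => ?_⟩
    rw [X.mem_EQ, X.mem_EQ, Subgroup.coe_mul, Subgroup.coe_mul, X.cv_mul, Pi.add_apply, Prod.snd_add, hu]
    exact (show ∀ a : ZMod 2, Xor (a + 1 = 0) (a = 0) by decide) _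
  have h := X.EQ.card_mul_index
  rw [hi, X.card_JQ] at h
  omega

theorem EQ_ker {q : ↥X.JQ} (h : X.θ q = 1) : q ∈ X.EQ := by
  rw [X.mem_EQ]
  rcases (X.θ_ker q).1 h with e | e
  · rw [e, X.cv_one]; rfl
  · rw [e, X.cv_t]; decide +kernel

/-- `z` among them -/
noncomputable def ζJ : ↥X.JQ := ⟨⟨X.ζ, X.ζ_CQ⟩, X.ζ_Kb⟩

theorem θ_ζ : X.θ X.ζJ = ⟨X.zk, Subgroup.mem_centralizer_singleton_iff.2 rfl⟩ := rfl

theorem zk_ne : X.zk ≠ 1 := by
  intro e
  have h : X.θ X.ζJ = 1 := by rw [X.θ_ζ]; exact Subtype.ext e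
  rcases (X.θ_ker _).1 h with e' | e'
  · exact X.ζ_ne e'
  · exact X.t_ne.2 e'.symm

theorem comm_vals (a b : ↥X.JQ) : ⁅X.θ a, X.θ b⁆ = 1 ∨ ⁅X.θ a, X.θ b⁆ = X.θ X.ζJ := by
  rw [← map_commutatorElement]
  rcases (center_iff X.D.b).1 (comm_mem X.D.b a.1.1 b.1.1) with h | h
  · left; rw [show ⁅a, b⁆ = 1 from Subtype.ext (Subtype.ext h), map_one]
  · right; exact congrArg X.θ (Subtype.ext (Subtype.ext (Subtype.ext h)))

theorem sq_vals (a : ↥X.JQ) : X.θ a * X.θ a = 1 ∨ X.θ a * X.θ a = X.θ X.ζJ := by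
  rw [← map_mul]
  rcases (center_iff X.D.b).1 (sq_mem X.D.b a.1.1) with h | h
  · left; rw [show a * a = 1 from Subtype.ext (Subtype.ext h), map_one]
  · right; exact congrArg X.θ (Subtype.ext (Subtype.ext (Subtype.ext h)))

/-- what commutes with the whole part of `Q` is a line -/
theorem line_of_comm {r : Q} (h : ∀ q : ↥X.JQ, r * q.1.1 = q.1.1 * r) : ∃ p, X.cv r = vv p := by
  refine mem_Uv.1 (perp_perp_Uv fun x hx => ?_)
  obtain ⟨h0, h1⟩ := mem_perp_Uv.1 hx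
  rw [vv_facts.1] at h0
  rw [vv_facts.2.1] at h1
  obtain ⟨q, hq⟩ := X.lift_JQ (v := x) h0 h1
  rw [bp_symm, ← X.cv_lift x, ← hq, ← X.comm_cv]
  exact h q

theorem u_central {qu : ↥X.JQ} (hu : qu.1.1 = X.u) (q : ↥X.JQ) : qu * q = q * qu := by
  refine Subtype.ext (Subtype.ext ?_)
  show qu.1.1 * q.1.1 = q.1.1 * qu.1.1
  rw [hu, X.comm_cv, X.cv_u]
  exact X.mem_JQ.1 q.2

theorem extraspecial_E : IsExtraspecial 2 ↥(X.EQ.map X.θ) ∧ Nat.card ↥(X.EQ.map X.θ) = 2 ^ 9 := by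
  have hc : Nat.card ↥(X.EQ.map X.θ) = 2 ^ 9 := by
    have h := X.card_ker_θ X.EQ fun q hq => X.EQ_ker hq
    rw [X.card_EQ] at h
    omega
  refine ⟨?_, hc⟩
  have hζE : X.ζJ ∈ X.EQ := X.mem_EQ.2 (by show ((X.cv X.ζ) 0).2 = 0; rw [X.cv_ζ]; rfl)
  have hzne : X.θ X.ζJ ≠ 1 := fun e => X.zk_ne (congrArg Subtype.val e)
  obtain ⟨a0, a1, b0, b1, hab, a2, b2⟩ := noncomm_wit
  obtain ⟨qa, hqa⟩ := X.lift_JQ a0 a1
  obtain ⟨qb', hqb⟩ := X.lift_JQ b0 b1
  refine LargeExtra.extraspecial_of (IsPGroup.of_card hc) (w := ⟨X.θ X.ζJ, Subgroup.mem_map_of_mem _ hζE⟩)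
    (fun e => hzne (congrArg Subtype.val e)) (Subtype.ext ?_) ?_ ?_ ?_ ?_
    ⟨⟨X.θ qa, Subgroup.mem_map_of_mem _ (X.mem_EQ.2 (by rw [hqa, X.cv_lift]; exact a2))⟩,
      ⟨X.θ qb', Subgroup.mem_map_of_mem _ (X.mem_EQ.2 (by rw [hqb, X.cv_lift]; exact b2))⟩, fun e => ?_⟩
  · show X.θ X.ζJ * X.θ X.ζJ = 1
    rw [← map_mul, show X.ζJ * X.ζJ = 1 from Subtype.ext (Subtype.ext X.ζ_sq), map_one]
  · exact Subgroup.mem_center_iff.2 fun x => Subtype.ext (Subgroup.mem_centralizer_singleton_iff.1 x.1.2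
      |> fun e => Subtype.ext e)
  · rintro ⟨_, q, hq, rfl⟩ hcen
    obtain ⟨qu, hu, hu2⟩ := X.u_JQ
    have hE : ∀ r ∈ X.EQ, q.1.1 * r.1.1 = r.1.1 * q.1.1 := fun r hr =>
      X.comm_of_θ (congrArg Subtype.val (Subgroup.mem_center_iff.1 hcen
        ⟨X.θ r, Subgroup.mem_map_of_mem _ hr⟩)).symm
    have hcu : q.1.1 * qu.1.1 = qu.1.1 * q.1.1 := congrArg (fun q : ↥X.JQ => q.1.1) (X.u_central hu q).symm
    obtain ⟨p, hp⟩ := X.line_of_comm (r := q.1.1) fun r => by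
      by_cases hr : r ∈ X.EQ
      · exact hE r hr
      · have hr' : r * qu ∈ X.EQ := by
          rw [X.mem_EQ] at hr ⊢
          rw [Subgroup.coe_mul, Subgroup.coe_mul, X.cv_mul, Pi.add_apply, Prod.snd_add, hu2,
            (zmod2_cases _).resolve_left hr]
          rfl
        have e := hE _ hr'
        rw [Subgroup.coe_mul, Subgroup.coe_mul, ← mul_assoc, mul_assoc r.1.1 qu.1.1, ← hcu, ← mul_assoc] at e
        exact mul_right_cancel e
    have hp2 : p.2 = 0 := by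
      have := X.mem_EQ.1 hq
      rw [hp] at this
      exact this
    obtain rfl | rfl := (show ∀ p : W4, p.2 = 0 → p = 0 ∨ p = (1, 0) by decide) p hp2
    · rw [vv_facts.2.2.2.2.2.2.2, X.cv_eq_zero] at hp
      rcases hp with e | e
      · left; exact Subtype.ext (show X.θ q = 1 from (X.θ_ker q).2 (Or.inl e))
      · right
        exact Subtype.ext (congrArg X.θ (show q = X.ζJ from Subtype.ext (Subtype.ext e)))
    · rw [vv_facts.1] at hp
      rcases X.cv_congr (a := X.t) (X.cv_t.trans hp.symm) with e | e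
      · left; exact Subtype.ext (show X.θ q = 1 from (X.θ_ker q).2 (Or.inr e))
      · right
        obtain ⟨h1, h2⟩ := X.t_JQ
        refine Subtype.ext (show X.θ q = X.θ X.ζJ from ?_)
        rw [show q = ⟨⟨X.t, h1⟩, h2⟩ * X.ζJ from Subtype.ext (Subtype.ext e), map_mul,
          (X.θ_ker _).2 (Or.inr rfl), one_mul]
  · rintro ⟨_, a, -, rfl⟩ ⟨_, b, -, rfl⟩
    rcases X.comm_vals a b with h | h
    · exact Or.inl (Subtype.ext h)
    · exact Or.inr (Subtype.ext h)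
  · rintro ⟨_, a, -, rfl⟩
    rcases X.sq_vals a with h | h
    · exact Or.inl (Subtype.ext h)
    · exact Or.inr (Subtype.ext h)
  · have h := X.comm_of_θ (congrArg Subtype.val e)
    rw [hqa, hqb, X.comm_cv, X.cv_lift, X.cv_lift, hab] at h
    exact absurd h (by decide)

theorem direct_product : ∃ A : Subgroup ↥X.Cz, Nat.card ↥A = 2 ∧
    IsInternalDirectProduct A (X.EQ.map X.θ) (pCore 2 ↥X.Cz) := by
  obtain ⟨qu, hu, hu2⟩ := X.u_JQ
  have hune : X.θ qu ≠ 1 := fun e => by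
    rw [X.mem_EQ.1 (X.EQ_ker e)] at hu2; exact absurd hu2 (by decide)
  have hu_sq : X.θ qu * X.θ qu = 1 := by
    rw [← map_mul]
    refine (X.θ_ker _).2 (Or.inl ?_)
    show qu.1.1 * qu.1.1 = 1
    rw [hu]
    exact (sq_iff X.D.b X.D.F (mk_lift X.D.F _)).2 sigma_facts.2.2.2.2.2.2.2.2.2.2.1
  have ho : orderOf (X.θ qu) = 2 := orderOf_eq_prime (by rw [sq, hu_sq]) hune
  refine ⟨Subgroup.zpowers (X.θ qu), by rw [Nat.card_zpowers, ho], ?_, ?_, ?_, ?_, ?_⟩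
  · rw [X.pCore_Cz]; exact Subgroup.zpowers_le.2 ⟨qu, rfl⟩
  · rw [X.pCore_Cz]; exact Subgroup.map_le_range _ _
  · rintro a ha _ ⟨b, -, rfl⟩
    obtain ⟨i, rfl⟩ := Subgroup.mem_zpowers_iff.1 ha
    exact ((show Commute (X.θ qu) (X.θ b) by
      show X.θ qu * X.θ b = X.θ b * X.θ qu
      rw [← map_mul, X.u_central hu, map_mul]).zpow_left i).eq
  · refine (Subgroup.eq_bot_iff_forall _).2 fun a ha => ?_
    obtain ⟨ha, b, hb, hba⟩ := ha
    replace ha : a ∈ Subgroup.zpowers (X.θ qu) := ha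
    rw [← (isOfFinOrder_of_finite _).mem_powers_iff_mem_zpowers, Submonoid.mem_powers_iff] at ha
    obtain ⟨n, rfl⟩ := ha
    rw [pow_eq_pow_mod n (show X.θ qu ^ 2 = 1 by rw [sq, hu_sq])] at hba ⊢
    rcases Nat.mod_two_eq_zero_or_one n with e | e
    · rw [e, pow_zero]
    · exfalso
      rw [e, pow_one] at hba
      have hbu : b⁻¹ * qu ∈ X.EQ := X.EQ_ker (by rw [map_mul, map_inv, hba, inv_mul_cancel])
      have h2 := X.mem_EQ.1 (X.EQ.mul_mem hb hbu)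
      rw [mul_inv_cancel_left, hu2] at h2
      exact absurd h2 (by decide)
  · refine le_antisymm (sup_le ?_ ?_) ?_
    · rw [X.pCore_Cz]; exact Subgroup.zpowers_le.2 ⟨qu, rfl⟩
    · rw [X.pCore_Cz]; exact Subgroup.map_le_range _ _
    · rw [X.pCore_Cz]
      rintro _ ⟨r, rfl⟩
      by_cases hr : r ∈ X.EQ
      · exact Subgroup.mem_sup_right (Subgroup.mem_map_of_mem _ hr)
      · have hr' : r * qu ∈ X.EQ := by
          rw [X.mem_EQ] at hr ⊢
          rw [Subgroup.coe_mul, Subgroup.coe_mul, X.cv_mul, Pi.add_apply, Prod.snd_add, hu2,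
            (zmod2_cases _).resolve_left hr]
          rfl
        rw [show X.θ r = X.θ (r * qu) * (X.θ qu)⁻¹ by rw [map_mul, mul_inv_cancel_right]]
        exact Subgroup.mul_mem _ (Subgroup.mem_sup_right (Subgroup.mem_map_of_mem _ hr'))
          (Subgroup.mem_sup_left (Subgroup.inv_mem _ (Subgroup.mem_zpowers _)))

theorem derived : ⁅pCore 2 ↥X.Cz, pCore 2 ↥X.Cz⁆ =
    Subgroup.zpowers (⟨X.zk, Subgroup.mem_centralizer_singleton_iff.2 rfl⟩ : ↥X.Cz) := by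
  rw [X.pCore_Cz, ← X.θ_ζ]
  refine le_antisymm (Subgroup.commutator_le.2 ?_) (Subgroup.zpowers_le.2 ?_)
  · rintro _ ⟨a, rfl⟩ _ ⟨b, rfl⟩
    rcases X.comm_vals a b with h | h <;> rw [h]
    · exact one_mem _
    · exact Subgroup.mem_zpowers _
  · obtain ⟨a0, a1, b0, b1, hab, -, -⟩ := noncomm_wit
    obtain ⟨qa, hqa⟩ := X.lift_JQ a0 a1
    obtain ⟨qb', hqb⟩ := X.lift_JQ b0 b1
    rcases X.comm_vals qa qb' with h | h
    · exfalso
      have h' := X.comm_of_θ (commutatorElement_eq_one_iff_commute.1 h)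
      rw [hqa, hqb, X.comm_cv, X.cv_lift, X.cv_lift, hab] at h'
      exact absurd h' (by decide)
    · rw [← h]
      exact Subgroup.commutator_mem_commutator ⟨qa, rfl⟩ ⟨qb', rfl⟩

theorem self_centralizing : Subgroup.centralizer (pCore 2 ↥X.Cz : Set ↥X.Cz) ≤ pCore 2 ↥X.Cz := by
  rw [X.pCore_Cz]
  haveI : X.θ.range.Normal := X.ρ_ker ▸ MonoidHom.normal_ker _
  suffices hb : (Subgroup.centralizer (X.θ.range : Set ↥X.Cz)).map X.ρ = ⊥ from
    ((Subgroup.map_eq_bot_iff _).1 hb).trans X.ρ_ker.le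
  haveI : ((Subgroup.centralizer (X.θ.range : Set ↥X.Cz)).map X.ρ).Normal :=
    (inferInstance : (Subgroup.centralizer (X.θ.range : Set ↥X.Cz)).Normal).map _ X.ρ_surj
  refine (psp_normal_cases _).resolve_right fun hN => ?_
  obtain ⟨d, hd, hd0, hdv⟩ := dg_facts 0
  obtain ⟨m, -, hm⟩ := X.D.F.diag d hd
  obtain ⟨r, hr⟩ := X.surj_Ct (cact_eq X.D.F ((hm v0).trans (congrArg X.D.F.co hd0)))
  set h : ↥X.Ct := ⟨_, hr⟩ with hh
  have hsq : ((X.ψ (h * h) : ↥X.Hb) : X.Cb) ∈ X.Kb := by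
    rw [map_mul, Subgroup.coe_mul, Subgroup.mul_mem_iff_of_index_two X.Kb_index]
  set y : ↥X.Cz := ⟨⟨_, hsq⟩, X.mem_Cz hsq⟩ * ⟨⟨_, hsq⟩, X.mem_Cz hsq⟩ with hy
  obtain ⟨-, hcom, hidx, -, -⟩ := Fi22Two.mulAut_psp
  obtain ⟨c, hc, hce⟩ : X.ρ y ∈ (Subgroup.centralizer (X.θ.range : Set ↥X.Cz)).map X.ρ := by
    refine hN ?_
    rw [hy, map_mul, ← hcom, Subgroup.mul_mem_iff_of_index_two hidx]
  obtain ⟨q', hq'⟩ : c⁻¹ * y ∈ X.θ.range := by
    rw [← X.ρ_ker, MonoidHom.mem_ker, map_mul, map_inv, hce, inv_mul_cancel]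
  obtain ⟨hp0, hp1⟩ := tail_perp 0 ((1, 0) : W4)
  obtain ⟨q, hq⟩ := X.lift_JQ hp0 hp1
  have hconj : y * X.θ q * y⁻¹ = X.θ (q' * q * q'⁻¹) := by
    have e : y = c * X.θ q' := by rw [hq', mul_inv_cancel_left]
    have hcc : Commute c (X.θ (q' * q * q'⁻¹)) :=
      (Subgroup.mem_centralizer_iff.1 hc _ ⟨_, rfl⟩).symm
    calc y * X.θ q * y⁻¹ = c * X.θ (q' * q * q'⁻¹) * c⁻¹ := by rw [e, map_mul, map_mul, map_inv]; group
      _ = _ := by rw [hcc.eq, mul_inv_cancel_right]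
  set w : Q := MulAut.conjNormal ((h * h * (h * h) : ↥X.Ct).1) q.1.1 with hw
  have hwC : w ∈ X.CQ := by
    show (w : Subgroup.centralizer ({z} : Set G)) ∈ X.Ct
    rw [hw, MulAut.conjNormal_apply]
    exact X.Ct.mul_mem (X.Ct.mul_mem (h * h * (h * h) : ↥X.Ct).2 q.1.2) (X.Ct.inv_mem (h * h * (h * h) : ↥X.Ct).2)
  have hwe : X.qb ⟨w, hwC⟩ = X.qb (q' * q * q'⁻¹ : ↥X.JQ).1 := by
    have e := congrArg (fun x : ↥X.Cz => ((x : ↥X.Kb) : X.Cb)) hconj
    refine Eq.trans ?_ e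
    show ((X.ψ (X.jt ⟨w, hwC⟩) : ↥X.Hb) : X.Cb) = _
    rw [show X.jt ⟨w, hwC⟩ = h * h * (h * h) * X.jt q.1 * (h * h * (h * h))⁻¹ from Subtype.ext (by
      show (w : Subgroup.centralizer ({z} : Set G)) = _
      rw [hw, MulAut.conjNormal_apply]; rfl), hy]
    simp only [map_mul, map_inv]
    rfl
  have hcw : X.cv w = Pi.single (up 0) (omk 1 (1, 0)) := by
    have hact : ∀ v, cact X.D.F h.1 v = dg d v := fun v => by
      rw [hh, cact_mul, X.D.cact_Q r.2]; exact cact_eq X.D.F (hm v)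
    have h4 : ∀ v, cact X.D.F ((h * h * (h * h) : ↥X.Ct).1) v = dg d (dg d (dg d (dg d v))) := fun v => by
      rw [Subgroup.coe_mul, Subgroup.coe_mul, cact_mul X.D.F (h.1 * h.1) (h.1 * h.1), cact_mul X.D.F h.1 h.1,
        cact_mul X.D.F h.1 h.1]
      simp only [hact]
    rw [hw, X.cv_conj, hq, X.cv_lift, h4, hdv, hdv, hdv, hdv]
    decide +kernel
  have hcq : X.cv (q' * q * q'⁻¹ : ↥X.JQ).1.1 = Pi.single (up 0) ((1, 0) : W4) := by
    rw [Subgroup.coe_mul, Subgroup.coe_mul, Subgroup.coe_inv, Subgroup.coe_mul, Subgroup.coe_mul, Subgroup.coe_inv,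
      X.cv_mul, X.cv_mul, X.cv_inv, hq, X.cv_lift, add_right_comm, add_self6, zero_add]
  rcases X.qb_eq hwe with e | e
  · have e' := congrArg X.cv e
    rw [hcq, hcw] at e'
    revert e'; decide +kernel
  · have e' := congrArg X.cv e
    rw [hcq, X.cv_mul, hcw, X.cv_t] at e'
    revert e'; decide +kernel

end Setup

end Cfsg.Agent.Fi22Aut
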