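import Cfsg.Agent.Fi22Aut.Hyps
import Cfsg.Agent.S1696
import Cfsg.Agent.Fi22Out.Main
import Cfsg.Prelude.Def_Spor_Fi22
import Cfsg.Prelude.Def_TwoFusion
import Cfsg.Prelude.Def_CaseTheorems

/-! The centraliser of an involution of the smaller class, given the characterisation of `Fi₂₂`. -/

set_option autoImplicit false
set_option maxRecDepth 20000
set_option Elab.async false

open Finset Cfsg Cfsg.Agent
open scoped commutatorElement

namespace Cfsg.Agent.Fi22Aut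

open LargeFischer

universe v

/-- the characterisation of `Fi₂₂` by the centraliser of an involution, in the form used here -/
def Recognition : Prop :=
  ∀ (P : Type v) [Group P] [Finite P] (z : P), orderOf z = 2 →
    ∀ (A E : Subgroup ↥(Subgroup.centralizer ({z} : Set P))),
      IsInternalDirectProduct A E (pCore 2 ↥(Subgroup.centralizer ({z} : Set P))) → Nat.card ↥A = 2 →
      IsExtraspecial 2 ↥E → Nat.card ↥E = 2 ^ 9 →
      ∀ zc : ↥(Subgroup.centralizer ({z} : Set P)), (zc : P) = z →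
      ⁅pCore 2 ↥(Subgroup.centralizer ({z} : Set P)), pCore 2 ↥(Subgroup.centralizer ({z} : Set P))⁆ =
        Subgroup.zpowers zc →
      Subgroup.centralizer (pCore 2 ↥(Subgroup.centralizer ({z} : Set P)) : Set ↥(Subgroup.centralizer ({z} : Set P)))
        ≤ pCore 2 ↥(Subgroup.centralizer ({z} : Set P)) →
      Nonempty ((↥(Subgroup.centralizer ({z} : Set P)) ⧸ pCore 2 ↥(Subgroup.centralizer ({z} : Set P))) ≃*
        MulAut (Cfsg.PSp 2 (ZMod 3))) →
      Subgroup.centralizer ({z} : Set P) ⊔ Cfsg.oddCore P = ⊤ ∨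
      (∃ z₁ : P, orderOf z₁ = 2 ∧ z₁ ∉ Subgroup.zpowers z ∧
        (∃ h₁ : z₁ ∈ Subgroup.centralizer ({z} : Set P),
          (⟨z₁, h₁⟩ : ↥(Subgroup.centralizer ({z} : Set P))) ∈ pCore 2 ↥(Subgroup.centralizer ({z} : Set P)) ∧
          ∀ j ∈ pCore 2 ↥(Subgroup.centralizer ({z} : Set P)), j * ⟨z₁, h₁⟩ = ⟨z₁, h₁⟩ * j) ∧
        (Subgroup.zpowers z₁).Normal) ∨
      Cfsg.Spor.IsoFi22 P

theorem conj_fix_of_odd {P : Type*} [Group P] [Finite P] {O : Subgroup P} [O.Normal] (hO : Odd (Nat.card ↥O))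
    {z o : P} (hz : z * z = 1) (ho : o ∈ O) (hc : Commute (o * z * o⁻¹) z) : o * z * o⁻¹ = z := by
  have hzi : z⁻¹ = z := inv_eq_of_mul_eq_one_right hz
  have hc' : o * z * o⁻¹ * z = z * (o * z * o⁻¹) := hc
  have hm : o * z * o⁻¹ * z ∈ O := by
    rw [show o * z * o⁻¹ * z = o * (z * o⁻¹ * z⁻¹) by rw [hzi]; group]
    exact mul_mem ho ((inferInstance : O.Normal).conj_mem _ (inv_mem ho) _)
  have hs : o * z * o⁻¹ * z * (o * z * o⁻¹ * z) = 1 := by
    calc o * z * o⁻¹ * z * (o * z * o⁻¹ * z) = o * z * o⁻¹ * (z * (o * z * o⁻¹)) * z := by group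
      _ = o * z * o⁻¹ * (o * z * o⁻¹) * (z * z) := by rw [← hc']; group
      _ = o * (z * z) * o⁻¹ * (z * z) := by group
      _ = 1 := by rw [hz]; group
  have h1 : o * z * o⁻¹ * z = 1 := by
    by_contra hne
    have h2 : orderOf (o * z * o⁻¹ * z) = 2 := orderOf_eq_prime (by rw [sq, hs]) hne
    have := Subgroup.orderOf_dvd_natCard _ hm
    rw [h2] at this
    exact (Nat.not_even_iff_odd.2 hO) (even_iff_two_dvd.2 this)
  rw [eq_inv_of_mul_eq_one_left h1, hzi]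

variable {G : Type v} [Group G] [Finite G] {z : G}
  {Q : Subgroup (Subgroup.centralizer ({z} : Set G))} [Q.Normal]

namespace Setup

variable (X : Setup z Q)

theorem zb_sq : X.zb * X.zb = 1 := by
  rw [← X.qb_ζ, ← map_mul, show (⟨X.ζ, X.ζ_CQ⟩ : ↥X.CQ) * ⟨X.ζ, X.ζ_CQ⟩ = 1 from Subtype.ext X.ζ_sq, map_one]

theorem zk_order : orderOf X.zk = 2 :=
  orderOf_eq_prime (by rw [sq]; exact Subtype.ext X.zb_sq) X.zk_ne

instance : X.Kb.Normal := Subgroup.normal_of_index_eq_two X.Kb_index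

/-- `z` is not isolated in the subgroup -/
theorem not_isolated : ∃ k : ↥X.Kb, Commute (k * X.zk * k⁻¹) X.zk ∧ k * X.zk * k⁻¹ ≠ X.zk := by
  obtain ⟨g, hgt, hgc, hgz⟩ := X.hmove
  set g' : ↥X.Cg := ⟨g, Subgroup.mem_centralizer_singleton_iff.2 hgt⟩ with hg'
  have hc : Commute (X.π g' * X.zb * (X.π g')⁻¹) X.zb := by
    show X.π g' * X.zb * (X.π g')⁻¹ * X.zb = X.zb * (X.π g' * X.zb * (X.π g')⁻¹)
    rw [← map_inv, ← map_mul, ← map_mul, ← map_mul, ← map_mul]
    exact congrArg X.π (Subtype.ext hgc)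
  have hne : X.π g' * X.zb * (X.π g')⁻¹ ≠ X.zb := fun e =>
    hgz (mul_inv_eq_iff_eq_mul.2 ((X.conj_zb_iff g').1 e))
  by_cases hk : X.π g' ∈ X.Kb
  · exact ⟨⟨_, hk⟩, Subtype.ext hc, fun e => hne (congrArg Subtype.val e)⟩
  · set sb := X.qb ⟨X.s, X.s_CQ⟩ with hsb
    have hk' : X.π g' * sb ∈ X.Kb := by
      rw [Subgroup.mul_mem_iff_of_index_two X.Kb_index]; exact iff_of_false hk X.s_not_Kb
    have hz : sb * X.zb * sb⁻¹ = X.zb := mul_inv_eq_iff_eq_mul.2
      (Subgroup.mem_centralizer_singleton_iff.1 (X.ψ (X.jt ⟨X.s, X.s_CQ⟩)).2)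
    have e : X.π g' * sb * X.zb * (X.π g' * sb)⁻¹ = X.π g' * X.zb * (X.π g')⁻¹ := by
      calc X.π g' * sb * X.zb * (X.π g' * sb)⁻¹ = X.π g' * (sb * X.zb * sb⁻¹) * (X.π g')⁻¹ := by group
        _ = _ := by rw [hz]
    refine ⟨⟨_, hk'⟩, Subtype.ext ?_, fun h => hne (e.symm.trans (congrArg Subtype.val h))⟩
    show X.π g' * sb * X.zb * (X.π g' * sb)⁻¹ * X.zb = X.zb * (X.π g' * sb * X.zb * (X.π g' * sb)⁻¹)
    rw [e]; exact hc

theorem quot_iso : Nonempty ((↥X.Cz ⧸ pCore 2 ↥X.Cz) ≃* MulAut (Cfsg.PSp 2 (ZMod 3))) :=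
  ⟨(QuotientGroup.quotientMulEquivOfEq (X.pCore_Cz.trans X.ρ_ker.symm)).trans
    (QuotientGroup.quotientKerEquivOfSurjective X.ρ X.ρ_surj)⟩

/-- the subgroup is the Fischer group -/
theorem Kb_iso (hrec : Recognition.{v}) : Nonempty (↥X.Kb ≃* Cfsg.Spor.Fi22) := by
  obtain ⟨A, hA, hAE⟩ := X.direct_product
  obtain ⟨hE, hEc⟩ := X.extraspecial_E
  obtain ⟨k, hkc, hkne⟩ := X.not_isolated
  rcases hrec ↥X.Kb X.zk X.zk_order A (X.EQ.map X.θ) hAE hA hE hEc
      ⟨X.zk, Subgroup.mem_centralizer_singleton_iff.2 rfl⟩ rfl X.derived X.self_centralizing X.quot_iso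
    with htop | ⟨z₁, hz1, hz1z, ⟨h₁, hmem, hcen⟩, hn⟩ | hiso
  · exfalso
    haveI : (Cfsg.oddCore ↥X.Kb).Normal := inferInstance
    have hmemk : k ∈ Cfsg.oddCore ↥X.Kb ⊔ Subgroup.centralizer ({X.zk} : Set ↥X.Kb) := by
      rw [sup_comm, htop]; exact Subgroup.mem_top _
    obtain ⟨o, ho, c, hc, hoc⟩ := Subgroup.mem_sup_of_normal_left.1 hmemk
    have e : k * X.zk * k⁻¹ = o * X.zk * o⁻¹ := by
      rw [← hoc, mul_inv_rev]
      calc o * c * X.zk * (c⁻¹ * o⁻¹) = o * (c * X.zk * c⁻¹) * o⁻¹ := by group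
        _ = _ := by rw [mul_inv_eq_iff_eq_mul.2 (Subgroup.mem_centralizer_singleton_iff.1 hc)]
    rw [e] at hkc hkne
    exact hkne (conj_fix_of_odd (Nat.coprime_two_right.1 Core.coprime_card_pPrimeCore)
      (Subtype.ext X.zb_sq) ho hkc)
  · exfalso
    -- a central involution
    have hz11 : z₁ ≠ 1 := fun e => by rw [e, orderOf_one] at hz1; omega
    have hcent : ∀ g : ↥X.Kb, g * z₁ = z₁ * g := by
      intro g
      have h := hn.conj_mem z₁ (Subgroup.mem_zpowers _) g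
      rw [← (isOfFinOrder_of_finite z₁).mem_powers_iff_mem_zpowers, Submonoid.mem_powers_iff] at h
      obtain ⟨n, hn'⟩ := h
      rw [pow_eq_pow_mod n (show z₁ ^ 2 = 1 by rw [← hz1]; exact pow_orderOf_eq_one _)] at hn'
      rcases Nat.mod_two_eq_zero_or_one n with e | e <;> rw [e] at hn'
      · rw [pow_zero] at hn'
        exact absurd (conj_eq_one_iff.1 hn'.symm) hz11
      · rw [pow_one] at hn'
        exact mul_inv_eq_iff_eq_mul.1 hn'.symm
    rw [X.pCore_Cz] at hmem hcen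
    obtain ⟨q, hq⟩ := hmem
    obtain ⟨p, hp⟩ := X.line_of_comm (r := q.1.1) fun r => X.comm_of_θ (by
      show X.θ q * X.θ r = X.θ r * X.θ q
      rw [hq, hcen _ ⟨r, rfl⟩])
    have hp2 : p.2 = 1 := by
      refine (zmod2_cases _).resolve_left fun h0 => ?_
      have hbad : X.θ q = 1 ∨ X.θ q = X.θ X.ζJ := by
        obtain rfl | rfl := (show ∀ p : W4, p.2 = 0 → p = 0 ∨ p = (1, 0) by decide) p h0
        · rw [vv_facts.2.2.2.2.2.2.2, X.cv_eq_zero] at hp
          rcases hp with e | e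
          · exact Or.inl ((X.θ_ker q).2 (Or.inl e))
          · exact Or.inr (congrArg X.θ (show q = X.ζJ from Subtype.ext (Subtype.ext e)))
        · rw [vv_facts.1] at hp
          rcases X.cv_congr (a := X.t) (X.cv_t.trans hp.symm) with e | e
          · exact Or.inl ((X.θ_ker q).2 (Or.inr e))
          · obtain ⟨h1, h2⟩ := X.t_JQ
            refine Or.inr ?_
            rw [show q = ⟨⟨X.t, h1⟩, h2⟩ * X.ζJ from Subtype.ext (Subtype.ext e), map_mul,
              (X.θ_ker _).2 (Or.inr rfl), one_mul]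
      rcases hbad with e | e <;> rw [hq] at e
      · exact hz11 (congrArg Subtype.val e)
      · exact hz1z (by rw [show z₁ = X.zk from congrArg Subtype.val e]; exact Subgroup.mem_zpowers _)
    have hqz : X.qb q.1 = (z₁ : X.Cb) := congrArg (fun x : ↥X.Cz => ((x : ↥X.Kb) : X.Cb)) hq
    set sb := X.qb ⟨X.s, X.s_CQ⟩ with hsb
    have hflip : sb * (z₁ : X.Cb) * sb⁻¹ = (z₁ : X.Cb) * X.zb := by
      rw [← hqz, hsb, ← X.qb_ζ, ← map_inv, ← map_mul, ← map_mul, ← map_mul]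
      refine congrArg X.qb (Subtype.ext (X.conj_of_bp ?_))
      rw [X.cv_s, hp]
      exact (show ∀ p : W4, p.2 = 1 → bp σ (vv p) = 1 by decide +kernel) p hp2
    refine hkne (mul_inv_eq_iff_eq_mul.2 (Subtype.ext ?_))
    set x : X.Cb := (k : X.Cb) with hx
    have h1 : x * (z₁ : X.Cb) = (z₁ : X.Cb) * x := congrArg Subtype.val (hcent k)
    have h2 : x * ((z₁ : X.Cb) * X.zb) = (z₁ : X.Cb) * X.zb * x := by
      have h3 := congrArg Subtype.val (hcent ⟨sb⁻¹ * x * sb, (inferInstance : X.Kb.Normal).conj_mem' x k.2 sb⟩)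
      have h4 : sb⁻¹ * x * sb * (z₁ : X.Cb) = (z₁ : X.Cb) * (sb⁻¹ * x * sb) := h3
      rw [← hflip]
      calc x * (sb * (z₁ : X.Cb) * sb⁻¹) = sb * (sb⁻¹ * x * sb * (z₁ : X.Cb)) * sb⁻¹ := by group
        _ = sb * ((z₁ : X.Cb) * (sb⁻¹ * x * sb)) * sb⁻¹ := by rw [h4]
        _ = _ := by group
    show x * X.zb = X.zb * x
    calc x * X.zb = x * (z₁ : X.Cb)⁻¹ * ((z₁ : X.Cb) * X.zb) := by group
      _ = (z₁ : X.Cb)⁻¹ * (x * ((z₁ : X.Cb) * X.zb)) := by
        rw [((show Commute x (z₁ : X.Cb) from h1).inv_right).eq]; group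
      _ = X.zb * x := by rw [h2]; group
  · exact hiso

section
variable (e : ↥X.Kb ≃* Cfsg.Spor.Fi22)
include e

theorem Kb_simple : IsSimpleGroup ↥X.Kb :=
  haveI := Cfsg.Agent.S1696.result.1
  e.isSimpleGroup

theorem Kb_nonabelian : ¬ ∀ a b : ↥X.Kb, a * b = b * a := by
  intro h
  obtain ⟨a0, a1, b0, b1, hab, -, -⟩ := noncomm_wit
  obtain ⟨qa, hqa⟩ := X.lift_JQ a0 a1
  obtain ⟨qb', hqb⟩ := X.lift_JQ b0 b1
  have h' := X.comm_of_θ (a := qa) (b := qb') (Subtype.ext (h _ _))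
  rw [hqa, hqb, X.comm_cv, X.cv_lift, X.cv_lift, hab] at h'
  exact absurd h' (by decide)

theorem Kb_center : Subgroup.center ↥X.Kb = ⊥ := by
  haveI := X.Kb_simple e
  refine (inferInstance : (Subgroup.center ↥X.Kb).Normal).eq_bot_or_eq_top.resolve_right fun h => ?_
  exact X.Kb_nonabelian e fun a b => (Subgroup.mem_center_iff.1 (h ▸ Subgroup.mem_top b) a)

theorem cent_Kb {x : X.Cb} (hx : ∀ k ∈ X.Kb, x * k = k * x) : x = 1 := by
  obtain ⟨h, hh⟩ := X.ψ_surj ⟨x, Subgroup.mem_centralizer_singleton_iff.2 (hx _ X.ζ_Kb)⟩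
  have hxh : (X.ψ h : X.Cb) = x := congrArg Subtype.val hh
  have hcomm : ∀ q : ↥X.JQ, MulAut.conjNormal h.1 q.1.1 = q.1.1 ∨ MulAut.conjNormal h.1 q.1.1 = q.1.1 * X.t := by
    intro q
    have e' : X.ψ (X.jt q.1) = X.ψ (h * X.jt q.1 * h⁻¹) := by
      refine Subtype.ext ?_
      rw [map_mul, map_mul, map_inv, Subgroup.coe_mul, Subgroup.coe_mul, Subgroup.coe_inv, hxh]
      exact (mul_inv_eq_iff_eq_mul.2 (hx _ q.2)).symm
    rcases X.ψ_eq e' with e'' | e''
    · exact Or.inl (Subtype.ext e'')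
    · exact Or.inr (Subtype.ext e'')
  have hQ : h.1 ∈ Q := X.mem_Q_of_comm h.2 fun i k q hq => by
    have h0 := X.mem_CQ.2 (hq ▸ (tv_perp i k).1)
    exact hcomm ⟨⟨q, h0⟩, X.mem_JQ.2 (hq ▸ (tv_perp i k).2.1)⟩
  set r : ↥X.CQ := ⟨⟨h.1, hQ⟩, h.2⟩ with hr
  obtain ⟨p, hp⟩ := X.line_of_comm (r := r.1) fun q => X.comm_of_mod (hcomm q)
  have hrK : X.qb r ∈ X.Kb := by
    rw [X.qb_Kb_iff, hp]
    exact (show ∀ p : W4, bp v1 (vv p) = 0 by decide +kernel) p
  have hc : (⟨X.qb r, hrK⟩ : ↥X.Kb) ∈ Subgroup.center ↥X.Kb := Subgroup.mem_center_iff.2 fun k => Subtype.ext (by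
    show (k : X.Cb) * X.qb r = X.qb r * k
    rw [show X.qb r = x from hxh]
    exact (hx _ k.2).symm)
  rw [X.Kb_center e, Subgroup.mem_bot] at hc
  rw [← hxh]
  exact congrArg Subtype.val hc

theorem Cb_iso : Nonempty (X.Cb ≃* MulAut Cfsg.Spor.Fi22) := by
  let f : X.Cb →* MulAut Cfsg.Spor.Fi22 := (MulAut.congr e).toMonoidHom.comp MulAut.conjNormal
  have hinj : Function.Injective f := by
    refine (injective_iff_map_eq_one f).2 fun x hx => X.cent_Kb e fun k hk => ?_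
    have h := congrArg Subtype.val (DFunLike.congr_fun ((MulEquiv.map_eq_one_iff (MulAut.congr e)).1
      (show MulAut.congr e (MulAut.conjNormal x) = 1 from hx)) (⟨k, hk⟩ : ↥X.Kb))
    rw [MulAut.one_apply, MulAut.conjNormal_apply] at h
    exact mul_inv_eq_iff_eq_mul.1 h
  haveI : Finite Cfsg.Spor.Fi22 := Finite.of_equiv _ e.toEquiv
  have hinn : Function.Injective (MulAut.conj : Cfsg.Spor.Fi22 →* MulAut Cfsg.Spor.Fi22) := by
    refine (injective_iff_map_eq_one _).2 fun g hg => ?_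
    have hc : e.symm g ∈ Subgroup.center ↥X.Kb := Subgroup.mem_center_iff.2 fun k => e.injective (by
      have h := DFunLike.congr_fun hg (e k)
      rw [MulAut.conj_apply, MulAut.one_apply, mul_inv_eq_iff_eq_mul] at h
      rw [map_mul, map_mul, e.apply_symm_apply]
      exact h.symm)
    rw [X.Kb_center e, Subgroup.mem_bot, MulEquiv.map_eq_one_iff] at hc
    exact hc
  have hcard : Nat.card (MulAut Cfsg.Spor.Fi22) = Nat.card X.Cb := by
    rw [(Cfsg.Inn Cfsg.Spor.Fi22).card_eq_card_quotient_mul_card_subgroup,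
      show Nat.card (MulAut Cfsg.Spor.Fi22 ⧸ Cfsg.Inn Cfsg.Spor.Fi22) = 2 from Fi22Out.card_out,
      ← Nat.card_congr (MonoidHom.ofInjective hinn).toEquiv, ← X.Kb.card_mul_index, X.Kb_index,
      Nat.card_congr e.toEquiv, mul_comm]
  haveI : Finite (MulAut Cfsg.Spor.Fi22) := Finite.of_injective _ DFunLike.coe_injective
  exact ⟨MulEquiv.ofBijective f ((Nat.bijective_iff_injective_and_card f).2 ⟨hinj, hcard.symm⟩)⟩

/-- the preimage -/
noncomputable abbrev K1 : Subgroup ↥X.Cg := X.Kb.comap X.π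

omit e in
theorem outer : ∃ h : ↥X.Ct, h.1 ∉ X.D.Lin ∧ (X.ψ h : X.Cb) ∈ X.Kb := by
  have hv0 : srep 0 ≠ 0 ∧ par (srep 0) = 0 := by decide +kernel
  obtain ⟨a, ha⟩ := X.D.exists_anti X.hF
  have hL : a ∉ X.D.Lin := fun hl => by
    have e := (hl (srep 0)).symm.trans (ha (srep 0))
    have e2 : cact X.D.F a (srep 0) = 0 := funext fun i =>
      (show ∀ p : W4, omk 1 p = omk 2 p → p = 0 by decide) _ (congrFun e i)
    exact hv0.1 (cact_inj X.D.F a (e2.trans (cact_zero X.D.F a).symm))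
  have := X.D.norm
  obtain ⟨m, hm, hmv⟩ := (mem_orb X.D.F).1 ((X.D.orb_iff (cact X.D.F a (srep 0))
    (fun e => hv0.1 (cact_inj X.D.F a (e.trans (cact_zero X.D.F a).symm)))
    ((cact_par X.D.b X.D.F a _).trans hv0.2) (srep 0)).2 ⟨hv0.1, hv0.2,
      (inA_cact X.D.b X.D.F X.D.hind X.D.orb_iff a hv0.1 hv0.2).symm⟩)
  obtain ⟨r, hr⟩ := X.surj_Ct (s := m * a) (show cact X.D.F (m * a) v0 = v0 by rw [cact_mul]; exact hmv)
  have hrL : (r : Subgroup.centralizer ({z} : Set G)) * (m * a) ∉ X.D.Lin := fun e => hL (by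
    have h1 := X.D.Lin.mul_mem (X.D.Lin.inv_mem (X.D.Q_le_Lin r.2)) e
    rw [inv_mul_cancel_left] at h1
    have h2 := X.D.Lin.mul_mem (X.D.Lin.inv_mem (X.D.M_le_Lin hm)) h1
    rwa [inv_mul_cancel_left] at h2)
  set h : ↥X.Ct := ⟨_, hr⟩
  by_cases hk : (X.ψ h : X.Cb) ∈ X.Kb
  · exact ⟨h, hrL, hk⟩
  · refine ⟨h * X.jt ⟨X.s, X.s_CQ⟩, fun e => hrL ?_, ?_⟩
    · have h1 : h.1 * (X.s : Subgroup.centralizer ({z} : Set G)) * (X.s : Subgroup.centralizer ({z} : Set G))⁻¹ ∈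
          X.D.Lin := X.D.Lin.mul_mem e (X.D.Lin.inv_mem (X.D.Q_le_Lin X.s.2))
      rwa [mul_inv_cancel_right] at h1
    · rw [map_mul, Subgroup.coe_mul, Subgroup.mul_mem_iff_of_index_two X.Kb_index]
      exact iff_of_false hk X.s_not_Kb

theorem K1_perfect : commutator ↥X.K1 = ⊤ := by
  haveI := X.Kb_simple e
  have hKb : commutator ↥X.Kb = ⊤ := by
    refine (inferInstance : (commutator ↥X.Kb).Normal).eq_bot_or_eq_top.resolve_left fun h => ?_
    exact X.Kb_nonabelian e fun a b => commutatorElement_eq_one_iff_mul_comm.1 (Subgroup.mem_bot.1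
      (h ▸ Subgroup.commutator_mem_commutator (Subgroup.mem_top a) (Subgroup.mem_top b)))
  let f : ↥X.K1 →* ↥X.Kb := MonoidHom.mk' (fun x => ⟨X.π x.1, x.2⟩) fun a b => Subtype.ext (map_mul X.π a.1 b.1)
  have hf : Function.Surjective f := by
    rintro ⟨y, hy⟩
    obtain ⟨x, rfl⟩ := QuotientGroup.mk'_surjective X.Nt y
    exact ⟨⟨x, hy⟩, rfl⟩
  have hjK : ∀ q : ↥X.JQ, X.ι (X.jt q.1) ∈ X.K1 := fun q => q.2
  have hcm : ∀ a b : ↥X.K1, ∀ g : G, ((⁅a, b⁆ : ↥X.K1) : ↥X.Cg).1 = g →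
      g ∈ ((commutator ↥X.K1).map (X.Cg.subtype.comp X.K1.subtype)) := fun a b g hg =>
    ⟨⁅a, b⁆, Subgroup.commutator_mem_commutator (Subgroup.mem_top _) (Subgroup.mem_top _), hg⟩
  set D1 := (commutator ↥X.K1).map (X.Cg.subtype.comp X.K1.subtype) with hD1
  have hzD : z ∈ D1 := by
    obtain ⟨a0, a1, b0, b1, hab, -, -⟩ := noncomm_wit
    obtain ⟨qa, hqa⟩ := X.lift_JQ a0 a1
    obtain ⟨qb', hqb⟩ := X.lift_JQ b0 b1
    refine hcm ⟨_, hjK qa⟩ ⟨_, hjK qb'⟩ z ?_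
    have h := X.conj_of_bp (a := qa.1.1) (b := qb'.1.1) (by rw [hqa, hqb, X.cv_lift, X.cv_lift, hab])
    rw [X.ζ_comm, ← mul_inv_eq_iff_eq_mul] at h
    exact congrArg (fun q : Q => ((q : Subgroup.centralizer ({z} : Set G)) : G)) h
  have htD : X.tG ∈ D1 := by
    obtain ⟨h, hl, hk⟩ := X.outer
    obtain ⟨qu, hu, -⟩ := X.u_JQ
    set c : Q := MulAut.conjNormal h.1 X.u * X.u⁻¹ with hc
    have hcv : X.cv c = X.cv X.t := by
      rw [hc, X.cv_mul, X.cv_inv, X.cv_conj, X.cv_u, X.cv_t, v1, X.D.sm_two hl,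
        show srep 0 = v0 from rfl, X.Ct_fix h.2]
      exact v1_images.2.1
    have hcD : ((c : Subgroup.centralizer ({z} : Set G)) : G) ∈ D1 := by
      refine hcm ⟨X.ι h, hk⟩ ⟨_, hjK qu⟩ _ ?_
      rw [hc, ← hu]
      simp [ι, jt, commutatorElement_def, MulAut.conjNormal_apply]
    rcases X.cv_congr hcv with e' | e'
    · show ((X.t : Subgroup.centralizer ({z} : Set G)) : G) ∈ D1
      rw [e']; exact hcD
    · show ((X.t : Subgroup.centralizer ({z} : Set G)) : G) ∈ D1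
      rw [e']
      exact mul_mem hcD hzD
  refine eq_top_iff.2 fun x _ => ?_
  obtain ⟨y, hy, hye⟩ : f x ∈ (commutator ↥X.K1).map f := by
    rw [_root_.commutator_def, Subgroup.map_commutator, Subgroup.map_top_of_surjective _ hf,
      ← _root_.commutator_def, hKb]
    exact Subgroup.mem_top _
  rcases X.π_eq (congrArg Subtype.val hye : X.π y.1 = X.π x.1) with e' | e'
  · rwa [show x = y from Subtype.ext (Subtype.ext e')]
  · obtain ⟨t', ht', ht''⟩ := htD
    rw [show x = y * t' from Subtype.ext (Subtype.ext (by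
      show ((x : ↥X.Cg) : G) = ((y : ↥X.Cg) : G) * ((t' : ↥X.Cg) : G)
      rw [e']
      exact congrArg _ ht''.symm))]
    exact mul_mem hy ht'

theorem K1_quasisimple : IsQuasisimple ↥X.K1 := by
  haveI := X.Kb_simple e
  refine ⟨⟨X.K1_perfect e⟩, ?_⟩
  let f : ↥X.K1 →* ↥X.Kb := MonoidHom.mk' (fun x => ⟨X.π x.1, x.2⟩) fun a b => Subtype.ext (map_mul X.π a.1 b.1)
  have hf : Function.Surjective f := by
    rintro ⟨y, hy⟩
    obtain ⟨x, rfl⟩ := QuotientGroup.mk'_surjective X.Nt y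
    exact ⟨⟨x, hy⟩, rfl⟩
  have hk : Subgroup.center ↥X.K1 = f.ker := by
    refine le_antisymm (fun x hx => ?_) fun x hx => ?_
    · have : f x ∈ Subgroup.center ↥X.Kb := Subgroup.mem_center_iff.2 fun y => by
        obtain ⟨y, rfl⟩ := hf y
        rw [← map_mul, ← map_mul, Subgroup.mem_center_iff.1 hx y]
      rwa [X.Kb_center e, Subgroup.mem_bot] at this
    · refine Subgroup.mem_center_iff.2 fun y => Subtype.ext (Subtype.ext ?_)
      have hcy : Commute ((y : ↥X.Cg) : G) X.tG := Subgroup.mem_centralizer_singleton_iff.1 y.1.2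
      obtain ⟨i, hi⟩ := Subgroup.mem_zpowers_iff.1
        (Subgroup.mem_subgroupOf.1 ((QuotientGroup.eq_one_iff _).1 (congrArg Subtype.val hx)))
      show ((y : ↥X.Cg) : G) * ((x : ↥X.Cg) : G) = ((x : ↥X.Cg) : G) * ((y : ↥X.Cg) : G)
      rw [← hi]
      exact (hcy.zpow_right i).eq
  exact ((QuotientGroup.quotientMulEquivOfEq hk).trans
    (QuotientGroup.quotientKerEquivOfSurjective f hf)).isSimpleGroup

theorem K1_fstar : generalizedFittingSubgroup ↥X.Cg = X.K1 := by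
  have hn : X.K1.Normal := inferInstance
  have hq := X.K1_quasisimple e
  have hc1 : IsComponent X.K1 := ⟨hn.isSubnormal, hq⟩
  have htK : X.Nt ≤ X.K1 := fun n hn => by
    show X.π n ∈ X.Kb
    rw [show X.π n = 1 from (QuotientGroup.eq_one_iff n).2 hn]
    exact one_mem _
  -- what commutes with it is small
  have hsmall : ∀ S : Subgroup ↥X.Cg, ⁅X.K1, S⁆ = ⊥ → S ≤ X.Nt := by
    intro S hS x hx
    refine (QuotientGroup.eq_one_iff _).1 (X.cent_Kb e (x := X.π x) fun k hk => ?_)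
    obtain ⟨k, rfl⟩ := QuotientGroup.mk'_surjective X.Nt k
    rw [← map_mul, ← map_mul]
    exact congrArg X.π (Layer.commute_of_commutator_eq_bot hS (show k ∈ X.K1 from hk) hx).symm
  refine le_antisymm (sup_le ?_ ?_) ((Layer.component_le_layer hc1).trans Layer.layer_le_generalizedFitting)
  · refine sSup_le fun L hL => ?_
    by_contra hne
    have hLK : L ≠ X.K1 := fun e => hne e.le
    have hle := hsmall L (by
      rw [Subgroup.commutator_comm]
      exact (Layer.component_le_or_commute hL hn.isSubnormal).resolve_left hne)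
    exact hne (hle.trans htK)
  · refine (hsmall _ ?_).trans htK
    rw [Subgroup.commutator_comm, Subgroup.commutator_eq_bot_iff_le_centralizer]
    exact Layer.fitting_le_centralizer_layer.trans (Subgroup.centralizer_le (Layer.component_le_layer hc1))

end

/-- the statement for this involution -/
theorem final (hrec : Recognition.{v}) :
    IsQuasisimple ↥(generalizedFittingSubgroup ↥X.Cg) ∧ (generalizedFittingSubgroup ↥X.Cg).index = 2 ∧
      (∃ htc : X.tG ∈ X.Cg, (⟨X.tG, htc⟩ : ↥X.Cg) ∈ generalizedFittingSubgroup ↥X.Cg) ∧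
      Nonempty (↥X.Cg ⧸ X.Nt ≃* MulAut Cfsg.Spor.Fi22) := by
  obtain ⟨e⟩ := X.Kb_iso hrec
  rw [X.K1_fstar e]
  refine ⟨X.K1_quasisimple e, ?_, ⟨Subgroup.mem_centralizer_singleton_iff.2 rfl, ?_⟩, X.Cb_iso e⟩
  · rw [K1, Subgroup.index_comap_of_surjective _ (QuotientGroup.mk'_surjective _), X.Kb_index]
  · show X.π _ ∈ X.Kb
    rw [show X.π ⟨X.tG, _⟩ = 1 from (QuotientGroup.eq_one_iff _).2 (Subgroup.mem_subgroupOf.2 (Subgroup.mem_zpowers _))]
    exact one_mem _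

end Setup

end Cfsg.Agent.Fi22Aut
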