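import Cfsg.Agent.LargeFischer.PairLocal
import Cfsg.Agent.LargeFischer.Shear

/-! Coordinate facts about the orthogonal of the first class and of a second class meeting it. -/

set_option autoImplicit false
set_option maxRecDepth 20000
set_option Elab.async false

open Finset Cfsg Cfsg.Agent

namespace Cfsg.Agent.Fi22Aut

open LargeFischer
open Cfsg.Agent.ThreeTrans.SU32 (F4)

/-- the first class -/
def v0 : Vec6 := srep 0

/-- its multiple -/
def v1 : Vec6 := sm 1 (srep 0)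

/-- a class of the same kind meeting the first one in one coordinate -/
def σ : Vec6 := Pi.single (0 : Fin 6) ((1, 0) : W4) + Pi.single (2 : Fin 6) ((1, 0) : W4)

/-- four vectors orthogonal to the three classes with all multiples -/
def tv : Fin 4 → Vec6 :=
  ![v0 + Pi.single (2 : Fin 6) ((1, 0) : W4), Pi.single (3 : Fin 6) ((1, 0) : W4), Pi.single (4 : Fin 6) ((1, 0) : W4), Pi.single (5 : Fin 6) ((1, 0) : W4)]

theorem tv_perp : ∀ (i : Fin 4) (k : ZMod 3),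
    bp v0 (sm k (tv i)) = 0 ∧ bp v1 (sm k (tv i)) = 0 ∧ bp σ (sm k (tv i)) = 0 := by decide +kernel

theorem tv_span : ∀ i : Fin 4, (Pi.single (up i) (1, 0) : Vec6) = if i = 0 then v0 + tv i else tv i := by
  decide +kernel

theorem sigma_facts : bp v0 σ = 0 ∧ bp v1 σ = 1 ∧ σ ≠ 0 ∧ σ + v0 ≠ 0 ∧ v0 ≠ 0 ∧ v1 ≠ 0 ∧ v1 ≠ v0 ∧
    par σ = 0 ∧ par (σ + v0) = 0 ∧ par v0 = 0 ∧ par v1 = 0 ∧
    cls σ = (2, 0) ∧ cls (σ + v0) = (2, 0) ∧ cls v0 = (2, 0) ∧
    bp v0 v0 = 0 ∧ bp v0 v1 = 0 ∧ bp σ σ = 0 ∧ bp v1 v1 = 0 := by decide +kernel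

theorem semilinear_moves : ∀ a b : Fin 2, ∀ i : Fin 4,
    sm 2 (tv i + if a = 0 then 0 else v0) ≠ sm 1 (tv i) + if b = 0 then 0 else v0 := by decide +kernel

theorem linear_fixes : ∀ a b : Fin 2, ∀ i : Fin 4,
    sm 1 (tv i + if a = 0 then 0 else v0) = sm 1 (tv i) + (if b = 0 then 0 else v0) → a = 0 := by
  decide +kernel

theorem v1_images : sm 2 v0 = v0 + v1 ∧ sm 2 v0 + v1 = v0 ∧ (∀ k : ZMod 3, k ≠ 0 → sm k v0 ≠ v0) := by
  decide +kernel

/-- a vector orthogonal to all the multiples above and to the first two classes -/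
theorem four_perp {x : Vec6} (h : ∀ (i : Fin 4) (k : ZMod 3), bp x (sm k (tv i)) = 0)
    (h0 : bp x v0 = 0) (hs : bp x σ = 0) : x = 0 ∨ x = v0 ∨ x = σ ∨ x = σ + v0 := by
  have key : ∀ (a : Fin 4) (k : ZMod 3), a ≠ 0 →
      bp x (sm k (tv a)) = trF (toF (x (up a)) * toF (omk k (1, 0)) ^ 2) := by
    intro a k ha
    have e : sm k (tv a) = Pi.single (up a) (omk k (1, 0)) := by
      revert a k; decide +kernel
    rw [e, bp, hf_single]
  have hup : ∀ a : Fin 4, a ≠ 0 → x (up a) = 0 := fun a ha =>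
    (show ∀ p : W4, (∀ k : ZMod 3, trF (toF p * toF (omk k (1, 0)) ^ 2) = 0) → p = 0 by decide +kernel) _
      fun k => (key a k ha).symm.trans (h a k)
  have hx : x = (fun i : Fin 6 => if i = 0 then x 0 else if i = 1 then x 1 else if i = 2 then x 2 else 0) := by
    funext i
    rcases (show ∀ i : Fin 6, i = 0 ∨ i = 1 ∨ i = 2 ∨ ∃ a : Fin 4, a ≠ 0 ∧ i = up a by decide +kernel) i
      with rfl | rfl | rfl | ⟨a, ha, rfl⟩
    · simp
    · simp
    · simp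
    · rw [hup a ha]
      obtain ⟨n0, n1, n2⟩ := (show ∀ a : Fin 4, a ≠ 0 → up a ≠ 0 ∧ up a ≠ 1 ∧ up a ≠ 2 by decide +kernel) a ha
      simp [n0, n1, n2]
  have hsmall : ∀ p q r : W4, let x : Vec6 := fun i => if i = 0 then p else if i = 1 then q else if i = 2 then r else 0
      (∀ k : ZMod 3, bp x (sm k (tv 0)) = 0) → bp x v0 = 0 → bp x σ = 0 →
        x = 0 ∨ x = v0 ∨ x = σ ∨ x = σ + v0 := by decide +kernel
  rw [hx]
  rw [hx] at h h0 hs
  exact hsmall (x 0) (x 1) (x 2) (fun k => h 0 k) h0 hs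

theorem dg_facts (i : Fin 4) : ∃ d : Fin 6 → ZMod 3, ∑ l, d l = 0 ∧ dg d v0 = v0 ∧
    ∀ p : W4, dg d (Pi.single (up i) p) = Pi.single (up i) (omk 1 p) := by
  refine ⟨fun l => if l = up i then 1 else if l = up (i + 1) then 2 else 0, ?_⟩
  revert i
  decide +kernel

theorem shear_facts : es (pr 1) v0 = v0 ∧ ∀ p : W4, ∃ (q : W4) (r : Vec6),
    es (pr 1) (Pi.single 2 q) = vv p + r ∧ r 0 = 0 ∧ r 1 = 0 := by
  refine ⟨by decide +kernel, ?_⟩
  intro p
  refine ⟨omk 1 p, es (pr 1) (Pi.single 2 (omk 1 p)) + vv p, ?_⟩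
  revert p
  decide +kernel

theorem pair_split : ∀ p q : W4,
    (let x : Vec6 := fun i => if i = 0 then p else if i = 1 then q else 0
    bp v0 x = 0 → (bp v1 x = 0 → p = q) ∧ (bp v1 x = 1 → q = p + (1, 0))) := by decide +kernel

theorem noncomm_wit : bp v0 (Pi.single (3 : Fin 6) ((1, 0) : W4)) = 0 ∧ bp v1 (Pi.single (3 : Fin 6) ((1, 0) : W4)) = 0 ∧
    bp v0 (Pi.single (3 : Fin 6) ((0, 1) : W4)) = 0 ∧ bp v1 (Pi.single (3 : Fin 6) ((0, 1) : W4)) = 0 ∧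
    bp (Pi.single (3 : Fin 6) ((1, 0) : W4)) (Pi.single (3 : Fin 6) ((0, 1) : W4) : Vec6) = 1 ∧
    ((Pi.single (3 : Fin 6) ((1, 0) : W4) : Vec6) 0).2 = 0 ∧ ((Pi.single (3 : Fin 6) ((0, 1) : W4) : Vec6) 0).2 = 0 := by decide +kernel

end Cfsg.Agent.Fi22Aut
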