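import Cfsg.Agent.Fi22Aut.Main

/-! The statement for an arbitrary involution of the class. -/

set_option autoImplicit false
set_option maxRecDepth 20000
set_option Elab.async false

open Finset Cfsg Cfsg.Agent

namespace Cfsg.Agent.Fi22Aut

open LargeFischer

universe v

variable {G : Type v} [Group G] [Finite G] {z : G}
  {Q : Subgroup (Subgroup.centralizer ({z} : Set G))} [Q.Normal]

theorem exists_setup (hF : IsOfLargeFischerTypeAt z Q) : Nonempty (Setup z Q) := by
  obtain ⟨D, hc⟩ := exists_data_param hF 1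
  obtain ⟨M⟩ := D.exists_maxData hF hc
  obtain ⟨R⟩ := M.exists_pairs hF hc
  obtain ⟨K⟩ := M.exists_four hc R
  obtain ⟨d', hd1, hd2, hd3, hd4⟩ : ∃ d' : GolayPt, d' ≠ K.a ∧ d' ≠ K.b ∧ d' ≠ K.c ∧ d' ≠ K.d := by
    by_contra hh
    push Not at hh
    have h1 : (Finset.univ : Finset GolayPt) ⊆ {K.a, K.b, K.c, K.d} := fun x _ => by
      simp only [Finset.mem_insert, Finset.mem_singleton]
      by_contra hx
      push Not at hx
      exact hx.2.2.2 (hh x hx.1 hx.2.1 hx.2.2.1)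
    have h2 := (Finset.card_le_card h1).trans Finset.card_le_four
    simp at h2
  obtain ⟨g, hg, hgz⟩ := K.exists_move hF hc hd1 hd2 hd3
  refine ⟨⟨D, hF, hc, K.q (1, 0), (K.hco _).trans (congrArg D.F.co vv_facts.1), g,
    (Subgroup.mem_centralizer_iff.1 hg _ ⟨(1, 0), (K.hq _).symm⟩).symm,
    congrArg Subtype.val (M.el_AG.1.is_comm.comm (⟨_, hgz ▸ R.mem _⟩ : ↥M.AG) ⟨_, M.z_mem_AG⟩), fun e => ?_⟩⟩
  have e' := R.inj ((hgz.symm.trans e).trans K.hz.symm)
  rw [add_right_inj, add_right_inj] at e'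
  exact hd4 (pt_inj e')

theorem centralizer_of_class (hrec : Recognition.{v}) (hF : IsOfLargeFischerTypeAt z Q) (t : G)
    (htQ : ∃ htc : t ∈ Subgroup.centralizer ({z} : Set G), (⟨t, htc⟩ : Subgroup.centralizer ({z} : Set G)) ∈ Q)
    (ht2 : orderOf t = 2) (ht : ¬ IsConj z t) (K : Subgroup ↥(Subgroup.centralizer ({t} : Set G)))
    (hK : K = generalizedFittingSubgroup ↥(Subgroup.centralizer ({t} : Set G)))
    [hn : ((Subgroup.zpowers t).subgroupOf (Subgroup.centralizer ({t} : Set G))).Normal] :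
    IsQuasisimple ↥K ∧ K.index = 2 ∧
      (∃ htc : t ∈ Subgroup.centralizer ({t} : Set G), (⟨t, htc⟩ : ↥(Subgroup.centralizer ({t} : Set G))) ∈ K) ∧
      Nonempty (↥(Subgroup.centralizer ({t} : Set G)) ⧸ (Subgroup.zpowers t).subgroupOf (Subgroup.centralizer ({t} : Set G))
        ≃* MulAut Cfsg.Spor.Fi22) := by
  subst hK
  obtain ⟨X⟩ := exists_setup (z := z) (Q := Q) hF
  obtain ⟨htc, htq⟩ := htQ
  have htt : t * t = 1 := by rw [← sq, ← ht2, pow_orderOf_eq_one]
  obtain ⟨w, hw, hp, hmk⟩ := X.D.mem_class (x := ⟨t, htc⟩) htq htt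
    (fun e => by
      have e' : t = 1 := e
      rw [e', orderOf_one] at ht2
      omega)
    (fun e => ht (by rw [show t = z from e]))
  have hA : InA X.D.c w := by
    by_contra h
    exact ht (X.D.conj_of_not_inA hF hmk hw hp h)
  have hv0 : srep 0 ≠ 0 ∧ par (srep 0) = 0 := by decide +kernel
  obtain ⟨h, hh⟩ := X.D.orbit_conj ((X.D.orb_iff (srep 0) hv0.1 hv0.2 w).2 ⟨hw, hp, iff_of_true hA (Or.inl (sc_srep 0))⟩)
    hw X.ht hmk
  set k : G := (h : G) with hk
  have hkt : k * X.tG * k⁻¹ = t := congrArg Subtype.val hh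
  have hmap : (Subgroup.centralizer ({X.tG} : Set G)).map (MulAut.conj k).toMonoidHom =
      Subgroup.centralizer ({t} : Set G) := by
    ext x
    rw [conj_mem, Subgroup.mem_centralizer_singleton_iff, Subgroup.mem_centralizer_singleton_iff, ← hkt]
    constructor
    · intro e
      calc x * (k * X.tG * k⁻¹) = k * (k⁻¹ * x * k * X.tG) * k⁻¹ := by group
        _ = _ := by rw [e]; group
    · intro e
      calc k⁻¹ * x * k * X.tG = k⁻¹ * (x * (k * X.tG * k⁻¹)) * k := by group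
        _ = _ := by rw [e]; group
  let φ : ↥X.Cg ≃* ↥(Subgroup.centralizer ({t} : Set G)) :=
    (MulEquiv.subgroupMap (MulAut.conj k) X.Cg).trans (MulEquiv.subgroupCongr hmap)
  have hφ : ∀ x : ↥X.Cg, ((φ x : ↥(Subgroup.centralizer ({t} : Set G))) : G) = k * x * k⁻¹ := fun x => rfl
  obtain ⟨hqs, hidx, ⟨htc', htm⟩, ⟨e⟩⟩ := X.final hrec
  have hgf := Layer.map_generalizedFitting_equiv φ
  refine ⟨?_, ?_, ⟨Subgroup.mem_centralizer_singleton_iff.2 rfl, ?_⟩, ?_⟩
  · rw [← hgf]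
    exact Layer.isQuasisimple_congr (φ.subgroupMap _) hqs
  · rw [← hgf, Subgroup.index_map_of_bijective φ.bijective]
    exact hidx
  · rw [← hgf]
    exact ⟨⟨X.tG, htc'⟩, htm, Subtype.ext ((hφ _).trans hkt)⟩
  · have hN : X.Nt.map φ.toMonoidHom = (Subgroup.zpowers t).subgroupOf (Subgroup.centralizer ({t} : Set G)) := by
      ext x
      simp only [Subgroup.mem_map, Subgroup.mem_subgroupOf]
      constructor
      · rintro ⟨y, hy, rfl⟩
        obtain ⟨i, hi⟩ := Subgroup.mem_zpowers_iff.1 hy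
        show ((φ y : ↥(Subgroup.centralizer ({t} : Set G))) : G) ∈ _
        rw [hφ, ← hi, ← conj_zpow, hkt]
        exact Subgroup.zpow_mem_zpowers _ _
      · intro hx
        obtain ⟨i, hi⟩ := Subgroup.mem_zpowers_iff.1 hx
        refine ⟨φ.symm x, Subgroup.mem_zpowers_iff.2 ⟨i, ?_⟩, φ.apply_symm_apply x⟩
        have h1 := hφ (φ.symm x)
        rw [φ.apply_symm_apply] at h1
        have h2 : k * X.tG ^ i * k⁻¹ = k * ((φ.symm x : ↥X.Cg) : G) * k⁻¹ :=
          (conj_zpow.symm.trans ((congrArg (· ^ i) hkt).trans hi)).trans h1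
        exact mul_left_cancel (mul_right_cancel h2)
    exact ⟨(QuotientGroup.congr X.Nt _ φ hN).symm.trans e⟩

end Cfsg.Agent.Fi22Aut
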