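import Cfsg.Agent.Fi22Aut.Model
import Cfsg.Agent.LargeFischer.PairMain

/-! The centraliser of an involution of the smaller class inside the centraliser of `z`. -/

set_option autoImplicit false
set_option maxRecDepth 20000
set_option Elab.async false

open Finset Cfsg Cfsg.Agent

namespace Cfsg.Agent.Fi22Aut

open LargeFischer

variable {G : Type*} [Group G] [Finite G] {z : G}
  {Q : Subgroup (Subgroup.centralizer ({z} : Set G))} [Q.Normal]

/-- the data: coordinates, and an involution over the first class with a moving element -/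
structure Setup (z : G) (Q : Subgroup (Subgroup.centralizer ({z} : Set G))) [Q.Normal] where
  D : Data z Q
  hF : IsOfLargeFischerTypeAt z Q
  hc : D.c = 1
  t : Q
  ht : (t : ↥Q ⧸ Subgroup.center ↥Q) = D.F.co v0
  hmove : ∃ g : G, g * ((t : Subgroup.centralizer ({z} : Set G)) : G) =
      ((t : Subgroup.centralizer ({z} : Set G)) : G) * g ∧
    g * z * g⁻¹ * z = z * (g * z * g⁻¹) ∧ g * z * g⁻¹ ≠ z

namespace Setup

variable (X : Setup z Q)

/-- the involution in `G` -/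
abbrev tG : G := ((X.t : Subgroup.centralizer ({z} : Set G)) : G)

/-- `z` in `Q` -/
def ζ : Q := ⟨zc z, zc_mem X.D.b⟩

/-- coordinates -/
noncomputable def cv (q : Q) : Vec6 := Classical.choose (X.D.F.bij.2 (q : ↥Q ⧸ Subgroup.center ↥Q))

theorem mk_cv (q : Q) : (q : ↥Q ⧸ Subgroup.center ↥Q) = X.D.F.co (X.cv q) :=
  (Classical.choose_spec (X.D.F.bij.2 (q : ↥Q ⧸ Subgroup.center ↥Q))).symm

theorem cv_eq {q : Q} {v : Vec6} (h : (q : ↥Q ⧸ Subgroup.center ↥Q) = X.D.F.co v) : X.cv q = v :=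
  X.D.F.bij.1 ((X.mk_cv q).symm.trans h)

theorem cv_mul (a b : Q) : X.cv (a * b) = X.cv a + X.cv b :=
  X.cv_eq (by rw [QuotientGroup.mk_mul, X.mk_cv a, X.mk_cv b, X.D.F.map_add])

theorem cv_lift (v : Vec6) : X.cv (LargeFischer.lift X.D.F v) = v := X.cv_eq (mk_lift X.D.F v)

theorem cv_t : X.cv X.t = v0 := X.cv_eq X.ht

theorem cv_eq_zero {q : Q} : X.cv q = 0 ↔ q = 1 ∨ q = X.ζ := by
  rw [show (q = 1 ∨ q = X.ζ) ↔ q ∈ Subgroup.center ↥Q from
    ((center_iff X.D.b).trans (or_congr Iff.rfl ⟨fun e => Subtype.ext e, fun e => congrArg Subtype.val e⟩)).symm,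
    ← QuotientGroup.eq_one_iff, X.mk_cv q, ← co_zero X.D.b X.D.F]
  exact X.D.F.bij.1.eq_iff.symm

theorem cv_conj (h : Subgroup.centralizer ({z} : Set G)) (q : Q) :
    X.cv (MulAut.conjNormal h q) = cact X.D.F h (X.cv q) :=
  X.cv_eq (X.D.conj_coord (X.mk_cv q) h)

theorem cv_congr {a b : Q} (h : X.cv a = X.cv b) : b = a ∨ b = a * X.ζ := by
  rcases (center_iff X.D.b).1 (QuotientGroup.eq.1 ((X.mk_cv a).trans ((congrArg X.D.F.co h).trans (X.mk_cv b).symm)))
    with e | e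
  · exact Or.inl (inv_mul_eq_one.1 e).symm
  · exact Or.inr (inv_mul_eq_iff_eq_mul.1 (show _ = X.ζ from Subtype.ext e))

theorem ζ_comm (q : Q) : q * X.ζ = X.ζ * q := Subtype.ext (X.D.zc_comm _)

theorem ζ_sq : X.ζ * X.ζ = 1 := Subtype.ext (zc_sq X.D.b)

theorem ζ_ne : X.ζ ≠ 1 := fun e => zc_ne_one X.D.b (congrArg Subtype.val e)

theorem cv_ζ : X.cv X.ζ = 0 := X.cv_eq_zero.2 (Or.inr rfl)

theorem cv_one : X.cv 1 = 0 := X.cv_eq_zero.2 (Or.inl rfl)

theorem cv_inv (a : Q) : X.cv a⁻¹ = X.cv a := by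
  refine add_eq_zero6 ?_
  rw [← X.cv_mul, inv_mul_cancel, X.cv_one]

theorem comm_cv (a b : Q) : a * b = b * a ↔ bp (X.cv a) (X.cv b) = 0 :=
  X.D.comm_bp (X.mk_cv a) (X.mk_cv b)

theorem conj_of_bp {a b : Q} (h : bp (X.cv a) (X.cv b) = 1) : a * b * a⁻¹ = b * X.ζ := by
  rcases (center_iff X.D.b).1 (comm_mem X.D.b a b) with e | e
  · rw [(X.comm_cv a b).1 (commutatorElement_eq_one_iff_mul_comm.1 e)] at h
    exact absurd h (by decide)
  · rw [X.ζ_comm, ← mul_inv_eq_iff_eq_mul]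
    exact Subtype.ext e

theorem t_sq : X.t * X.t = 1 := (sq_iff X.D.b X.D.F X.ht).2 sigma_facts.2.2.2.2.2.2.2.2.2.1

theorem t_ne : X.t ≠ 1 ∧ X.t ≠ X.ζ := by
  constructor <;> intro e
  · exact sigma_facts.2.2.2.2.1 (X.cv_t.symm.trans (X.cv_eq_zero.2 (Or.inl e)))
  · exact sigma_facts.2.2.2.2.1 (X.cv_t.symm.trans (X.cv_eq_zero.2 (Or.inr e)))

theorem tG_order : orderOf X.tG = 2 := by
  refine orderOf_eq_prime ?_ fun e => X.t_ne.1 (Subtype.ext (Subtype.ext e))
  rw [sq]
  exact congrArg (fun q : Q => ((q : Subgroup.centralizer ({z} : Set G)) : G)) X.t_sq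

/-- elements over a class of weight two are not conjugate to `z` -/
theorem not_conj {r : Q} (h : cls (X.cv r) = (2, 0)) (hp : par (X.cv r) = 0) :
    ¬IsConj z ((r : Subgroup.centralizer ({z} : Set G)) : G) := fun hc =>
  X.D.not_inA (X.mk_cv r) (fun e => by rw [e] at h; exact absurd h (by decide)) hp hc (Or.inl h)

/-- the centraliser of the involution inside the centraliser of `z` -/
def Ct : Subgroup (Subgroup.centralizer ({z} : Set G)) :=
  Subgroup.centralizer {(X.t : Subgroup.centralizer ({z} : Set G))}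

theorem mem_Ct {h : Subgroup.centralizer ({z} : Set G)} : h ∈ X.Ct ↔ MulAut.conjNormal h X.t = X.t := by
  rw [Ct, Subgroup.mem_centralizer_singleton_iff]
  constructor
  · intro e
    exact Subtype.ext (by rw [MulAut.conjNormal_apply]; exact mul_inv_eq_iff_eq_mul.2 e)
  · intro e
    have e' := congrArg Subtype.val e
    rw [MulAut.conjNormal_apply] at e'
    exact mul_inv_eq_iff_eq_mul.1 e'

theorem Ct_fix {h : Subgroup.centralizer ({z} : Set G)} (hh : h ∈ X.Ct) : cact X.D.F h v0 = v0 := by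
  have e := X.cv_conj h X.t
  rw [X.mem_Ct.1 hh, X.cv_t] at e
  exact e.symm

theorem Q_Ct {q : Q} : (q : Subgroup.centralizer ({z} : Set G)) ∈ X.Ct ↔ bp v0 (X.cv q) = 0 := by
  rw [Ct, Subgroup.mem_centralizer_singleton_iff, bp_symm, ← X.cv_t, ← X.comm_cv]
  exact ⟨fun e => Subtype.ext e, fun e => congrArg Subtype.val e⟩

theorem surj_Ct {s : Subgroup.centralizer ({z} : Set G)} (hs : cact X.D.F s v0 = v0) :
    ∃ r : Q, (r : Subgroup.centralizer ({z} : Set G)) * s ∈ X.Ct := by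
  have e : X.cv (MulAut.conjNormal s X.t) = X.cv X.t := by rw [X.cv_conj, X.cv_t, hs]
  obtain ⟨r, hr⟩ := X.D.class_conj (X.D.notMem_center (X.mk_cv (MulAut.conjNormal s X.t))
    (by rw [e, X.cv_t]; exact sigma_facts.2.2.2.2.1))
    ((X.mk_cv _).trans ((congrArg X.D.F.co e).trans (X.mk_cv _).symm))
  refine ⟨r, X.mem_Ct.2 ?_⟩
  conv_rhs => rw [← hr]
  exact Subtype.ext (by simp [MulAut.conjNormal_apply, mul_assoc])

/-- an element over the multiple of the class -/
noncomputable def u : Q := LargeFischer.lift X.D.F v1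

theorem cv_u : X.cv X.u = v1 := X.cv_lift _

theorem ut_comm : X.u * X.t = X.t * X.u := by
  rw [X.comm_cv, X.cv_u, X.cv_t, bp_symm]
  exact sigma_facts.2.2.2.2.2.2.2.2.2.2.2.2.2.2.2.1

/-- the four forms of a conjugate of `u` -/
noncomputable def form (a b : ZMod 2) : Q := X.u * X.t ^ a.val * X.ζ ^ b.val

theorem cv_pow_ζ (b : ZMod 2) : X.cv (X.ζ ^ b.val) = 0 := by
  rcases zmod2_cases b with rfl | rfl
  · rw [show ((0 : ZMod 2)).val = 0 from rfl, pow_zero, X.cv_one]
  · rw [show ((1 : ZMod 2)).val = 1 from rfl, pow_one, X.cv_ζ]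

theorem form_inj {a b a' b' : ZMod 2} (h : X.form a b = X.form a' b') : b = b' := by
  have hc := congrArg X.cv h
  simp only [form, X.cv_mul, X.cv_pow_ζ, add_zero] at hc
  have ha : a = a' := by
    have hc' := add_left_cancel hc
    rcases zmod2_cases a with rfl | rfl <;> rcases zmod2_cases a' with rfl | rfl
    · rfl
    · rw [show ((0 : ZMod 2)).val = 0 from rfl, show ((1 : ZMod 2)).val = 1 from rfl, pow_zero, pow_one,
        X.cv_one, X.cv_t] at hc'
      exact absurd hc'.symm sigma_facts.2.2.2.2.1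
    · rw [show ((0 : ZMod 2)).val = 0 from rfl, show ((1 : ZMod 2)).val = 1 from rfl, pow_zero, pow_one,
        X.cv_one, X.cv_t] at hc'
      exact absurd hc' sigma_facts.2.2.2.2.1
    · rfl
  subst ha
  have h' := mul_left_cancel (show X.u * X.t ^ a.val * X.ζ ^ b.val = X.u * X.t ^ a.val * X.ζ ^ b'.val from h)
  rcases zmod2_cases b with rfl | rfl <;> rcases zmod2_cases b' with rfl | rfl
  · rfl
  · exact absurd (h'.symm.trans (by simp : X.ζ ^ ((0 : ZMod 2)).val = 1)) (by simpa [ZMod.val_one] using X.ζ_ne)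
  · exact absurd (h'.trans (by simp : X.ζ ^ ((0 : ZMod 2)).val = 1)) (by simpa [ZMod.val_one] using X.ζ_ne)
  · rfl

theorem exists_form {h : Subgroup.centralizer ({z} : Set G)} (hh : h ∈ X.Ct) :
    ∃ a b, MulAut.conjNormal h X.u = X.form a b := by
  have e := X.cv_conj h X.u
  rw [X.cv_u, v1] at e
  obtain ⟨a, ha⟩ : ∃ a : ZMod 2, X.cv (MulAut.conjNormal h X.u) = X.cv (X.u * X.t ^ a.val) := by
    by_cases hl : h ∈ X.D.Lin
    · rw [X.D.mem_Lin.1 hl, show srep 0 = v0 from rfl, X.Ct_fix hh] at e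
      exact ⟨0, by rw [e, show ((0 : ZMod 2)).val = 0 from rfl, pow_zero, mul_one, X.cv_u]; rfl⟩
    · rw [X.D.sm_two hl, show srep 0 = v0 from rfl, X.Ct_fix hh] at e
      exact ⟨1, by rw [e, show ((1 : ZMod 2)).val = 1 from rfl, pow_one, X.cv_mul, X.cv_u, X.cv_t,
        v1_images.1, add_comm]⟩
  rcases X.cv_congr ha.symm with e' | e'
  · exact ⟨a, 0, by rw [e', form, show ((0 : ZMod 2)).val = 0 from rfl, pow_zero, mul_one]⟩
  · exact ⟨a, 1, by rw [e', form, show ((1 : ZMod 2)).val = 1 from rfl, pow_one]⟩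

open scoped _root_.Classical in
/-- whether the coset of `u` is moved -/
noncomputable def sw (h : Subgroup.centralizer ({z} : Set G)) : ZMod 2 :=
  if ∃ a, MulAut.conjNormal h X.u = X.form a 1 then 1 else 0

theorem sw_eq {h : Subgroup.centralizer ({z} : Set G)} {a b : ZMod 2}
    (e : MulAut.conjNormal h X.u = X.form a b) : X.sw h = b := by
  classical
  rw [sw]
  split_ifs with h'
  · obtain ⟨a', ha'⟩ := h'
    exact X.form_inj (ha'.symm.trans e)
  · rcases zmod2_cases b with rfl | rfl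
    · rfl
    · exact absurd ⟨a, e⟩ h'

theorem form_mul (a b a' b' : ZMod 2) :
    X.form a b * X.t ^ a'.val * X.ζ ^ b'.val = X.form (a + a') (b + b') := by
  have hp : ∀ x : Q, x * x = 1 → ∀ i j : ZMod 2, x ^ i.val * x ^ j.val = x ^ (i + j).val := by
    intro x hx i j
    rcases zmod2_cases i with rfl | rfl <;> rcases zmod2_cases j with rfl | rfl <;>
      simp [ZMod.val_one, show (1 : ZMod 2) + 1 = 0 from rfl, hx]
  have hc : X.ζ ^ b.val * X.t ^ a'.val = X.t ^ a'.val * X.ζ ^ b.val :=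
    ((show Commute X.ζ (X.t ^ a'.val) from (X.ζ_comm _).symm).pow_left _).eq
  simp only [form]
  calc X.u * X.t ^ a.val * X.ζ ^ b.val * X.t ^ a'.val * X.ζ ^ b'.val
      = X.u * X.t ^ a.val * (X.ζ ^ b.val * X.t ^ a'.val) * X.ζ ^ b'.val := by group
    _ = X.u * (X.t ^ a.val * X.t ^ a'.val) * (X.ζ ^ b.val * X.ζ ^ b'.val) := by rw [hc]; group
    _ = _ := by rw [hp _ X.t_sq, hp _ X.ζ_sq]

theorem sw_mul {g h : Subgroup.centralizer ({z} : Set G)} (hg : g ∈ X.Ct) (hh : h ∈ X.Ct) :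
    X.sw (g * h) = X.sw g + X.sw h := by
  obtain ⟨a, b, e⟩ := X.exists_form hg
  obtain ⟨a', b', e'⟩ := X.exists_form hh
  rw [X.sw_eq e, X.sw_eq e']
  refine X.sw_eq (a := a + a') ?_
  have hζ : MulAut.conjNormal g X.ζ = X.ζ := Subtype.ext (by
    rw [MulAut.conjNormal_apply]; exact mul_inv_eq_iff_eq_mul.2 (X.D.zc_comm g))
  rw [map_mul, MulAut.mul_apply, e']
  show MulAut.conjNormal g (X.u * X.t ^ a'.val * X.ζ ^ b'.val) = _
  rw [map_mul, map_mul, map_pow, map_pow, e, X.mem_Ct.1 hg, hζ, X.form_mul]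

/-- on `Q` it is given by the form -/
theorem sw_Q (q : Q) : X.sw (q : Subgroup.centralizer ({z} : Set G)) = bp v1 (X.cv q) := by
  have e : MulAut.conjNormal (q : Subgroup.centralizer ({z} : Set G)) X.u = q * X.u * q⁻¹ :=
    Subtype.ext (by simp [MulAut.conjNormal_apply])
  rw [bp_symm, ← X.cv_u]
  rcases zmod2_cases (bp (X.cv q) (X.cv X.u)) with h | h
  · rw [h]
    refine X.sw_eq (a := 0) ?_
    rw [e, (X.comm_cv _ _).2 h, mul_inv_cancel_right, form]
    simp
  · rw [h]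
    refine X.sw_eq (a := 0) ?_
    rw [e, X.conj_of_bp h, form]
    simp [ZMod.val_one]

theorem sw_t : X.sw (X.t : Subgroup.centralizer ({z} : Set G)) = 0 := by
  rw [X.sw_Q, X.cv_t, bp_symm]
  exact sigma_facts.2.2.2.2.2.2.2.2.2.2.2.2.2.2.2.1

/-- an element over the second class -/
noncomputable def s : Q := LargeFischer.lift X.D.F σ

theorem cv_s : X.cv X.s = σ := X.cv_lift _

theorem s_mem : (X.s : Subgroup.centralizer ({z} : Set G)) ∈ X.Ct := by
  rw [X.Q_Ct, X.cv_s]; exact sigma_facts.1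

theorem sw_s : X.sw (X.s : Subgroup.centralizer ({z} : Set G)) = 1 := by
  rw [X.sw_Q, X.cv_s]; exact sigma_facts.2.1

theorem s_sq : X.s * X.s = 1 :=
  (sq_iff X.D.b X.D.F (X.mk_cv _)).2 (by rw [X.cv_s]; exact sigma_facts.2.2.2.2.2.2.2.1)

/-- what commutes modulo the involution with enough of `Q` lies in `Q` -/
theorem mem_Q_of_comm {h : Subgroup.centralizer ({z} : Set G)} (hh : h ∈ X.Ct)
    (hcomm : ∀ (i : Fin 4) (k : ZMod 3) (q : Q), X.cv q = sm k (tv i) →
      MulAut.conjNormal h q = q ∨ MulAut.conjNormal h q = q * X.t) : h ∈ Q := by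
  have hstep : ∀ (i : Fin 4) (k : ZMod 3), ∃ a : Fin 2,
      cact X.D.F h (sm k (tv i)) = sm k (tv i) + if a = 0 then 0 else v0 := by
    intro i k
    set q := LargeFischer.lift X.D.F (sm k (tv i)) with hq
    have e := X.cv_conj h q
    rcases hcomm i k q (X.cv_lift _) with c | c
    · rw [c, hq, X.cv_lift] at e
      exact ⟨0, by rw [← e, if_pos rfl, add_zero]⟩
    · rw [c, X.cv_mul, hq, X.cv_lift, X.cv_t] at e
      exact ⟨1, by rw [← e, if_neg (by decide)]⟩
  have hl : h ∈ X.D.Lin := by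
    by_contra hl
    obtain ⟨a, ha⟩ := hstep 1 0
    obtain ⟨b, hb⟩ := hstep 1 1
    rw [sm_zero] at ha
    rw [X.D.sm_two hl, ha] at hb
    exact semilinear_moves a b 1 hb
  have hfix : ∀ i, cact X.D.F h (tv i) = tv i := by
    intro i
    obtain ⟨a, ha⟩ := hstep i 0
    obtain ⟨b, hb⟩ := hstep i 1
    rw [sm_zero] at ha
    rw [X.D.mem_Lin.1 hl, ha] at hb
    rw [ha, linear_fixes a b i hb, if_pos rfl, add_zero]
  have hS : h ∈ X.D.S0 := ⟨X.Ct_fix hh, hl⟩
  have hup : ∀ i, cact X.D.F h (Pi.single (up i) (1, 0)) = Pi.single (up i) (1, 0) := by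
    intro i
    rw [tv_span]
    split_ifs
    · rw [cact_add, X.Ct_fix hh, hfix]
    · exact hfix i
  have hmat : X.D.mat h = 1 := by
    rw [← X.D.mat_one]
    ext i j
    simp only [Data.mat, Matrix.of_apply, hup, cact_one]
  refine ((X.D.toSU_iso X.hF).2 ⟨h, hS⟩).1 (Subtype.ext (Subtype.ext ?_))
  show (X.D.mat h).det⁻¹ • X.D.mat h = 1
  rw [hmat, Matrix.det_one, inv_one, one_smul]

/-- and its coordinates are then known, if it commutes with the second class -/
theorem cv_of_comm {r : Q} (hr : (r : Subgroup.centralizer ({z} : Set G)) ∈ X.Ct)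
    (hcomm : ∀ (i : Fin 4) (k : ZMod 3) (q : Q), X.cv q = sm k (tv i) → r * q = q * r)
    (hs : r * X.s = X.s * r) : X.cv r = 0 ∨ X.cv r = v0 ∨ X.cv r = σ ∨ X.cv r = σ + v0 := by
  refine four_perp (fun i k => ?_) ?_ ?_
  · rw [← X.cv_lift (sm k (tv i)), ← X.comm_cv]
    exact hcomm i k _ (X.cv_lift _)
  · rw [bp_symm]; exact X.Q_Ct.1 hr
  · rw [← X.cv_s, ← X.comm_cv]; exact hs

/-- a commutator of `Q` never is the involution -/
theorem comm_of_mod {a b : Q} (h : MulAut.conjNormal (a : Subgroup.centralizer ({z} : Set G)) b = b ∨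
    MulAut.conjNormal (a : Subgroup.centralizer ({z} : Set G)) b = b * X.t) : a * b = b * a := by
  have e : MulAut.conjNormal (a : Subgroup.centralizer ({z} : Set G)) b = a * b * a⁻¹ :=
    Subtype.ext (by simp [MulAut.conjNormal_apply])
  rw [e] at h
  rcases h with h | h
  · exact mul_inv_eq_iff_eq_mul.1 h
  · exfalso
    have hc : X.cv (a * b * a⁻¹) = X.cv (b * X.t) := by rw [h]
    rw [X.cv_mul, X.cv_mul, X.cv_inv, X.cv_mul, X.cv_t, add_comm (X.cv a) (X.cv b), add_assoc, add_self6,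
      add_zero] at hc
    exact sigma_facts.2.2.2.2.1 (left_eq_add.1 hc)

end Setup

end Cfsg.Agent.Fi22Aut
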