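import Cfsg.Agent.Fi22Aut.Setup
import Cfsg.Agent.Fi22Two.Eval

/-! A subgroup of index two of the centraliser modulo the involution. -/

set_option autoImplicit false
set_option maxRecDepth 20000
set_option Elab.async false

open Finset Cfsg Cfsg.Agent

namespace Cfsg.Agent.Fi22Aut

open LargeFischer

theorem normal_zpowers_cent {G : Type*} [Group G] (t : G) :
    ((Subgroup.zpowers t).subgroupOf (Subgroup.centralizer ({t} : Set G))).Normal :=
  ⟨fun n hn g => by
    rw [Subgroup.mem_subgroupOf] at hn ⊢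
    obtain ⟨i, hi⟩ := Subgroup.mem_zpowers_iff.1 hn
    have hc : Commute (g : G) t := Subgroup.mem_centralizer_singleton_iff.1 g.2
    rw [Subgroup.coe_mul, Subgroup.coe_mul, Subgroup.coe_inv, ← hi, (hc.zpow_right i).eq, mul_inv_cancel_right]
    exact Subgroup.zpow_mem_zpowers t i⟩

theorem sq_one_zmod2 : ∀ a : Multiplicative (ZMod 2), a * a = 1 := by decide

variable {G : Type*} [Group G] [Finite G] {z : G}
  {Q : Subgroup (Subgroup.centralizer ({z} : Set G))} [Q.Normal]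

namespace Setup

variable (X : Setup z Q)

/-- the centraliser of the involution -/
abbrev Cg : Subgroup G := Subgroup.centralizer ({X.tG} : Set G)

/-- the involution as a subgroup of it -/
abbrev Nt : Subgroup ↥X.Cg := (Subgroup.zpowers X.tG).subgroupOf X.Cg

instance : X.Nt.Normal := normal_zpowers_cent X.tG

/-- the quotient -/
abbrev Cb := ↥X.Cg ⧸ X.Nt

/-- the quotient map -/
abbrev π : ↥X.Cg →* X.Cb := QuotientGroup.mk' X.Nt

theorem mem_Cg {h : Subgroup.centralizer ({z} : Set G)} : (h : G) ∈ X.Cg ↔ h ∈ X.Ct := by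
  rw [Subgroup.mem_centralizer_singleton_iff, Ct, Subgroup.mem_centralizer_singleton_iff]
  exact ⟨fun e => Subtype.ext e, fun e => congrArg Subtype.val e⟩

/-- into the centraliser of the involution -/
noncomputable def ι : ↥X.Ct →* ↥X.Cg :=
  MonoidHom.mk' (fun h => ⟨(h.1 : G), X.mem_Cg.2 h.2⟩) fun _ _ => rfl

theorem pow_t {g : G} (h : g ∈ Subgroup.zpowers X.tG) : g = 1 ∨ g = X.tG := by
  rw [← (isOfFinOrder_of_finite X.tG).mem_powers_iff_mem_zpowers, Submonoid.mem_powers_iff] at h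
  obtain ⟨n, rfl⟩ := h
  rw [pow_eq_pow_mod n (show X.tG ^ 2 = 1 by rw [← X.tG_order]; exact pow_orderOf_eq_one _)]
  rcases Nat.mod_two_eq_zero_or_one n with e | e <;> simp [e]

theorem π_eq {a b : ↥X.Cg} (h : X.π a = X.π b) : (b : G) = a ∨ (b : G) = a * X.tG := by
  rcases X.pow_t (Subgroup.mem_subgroupOf.1 (QuotientGroup.eq.1 h)) with e | e
  · exact Or.inl (inv_mul_eq_one.1 e).symm
  · exact Or.inr (inv_mul_eq_iff_eq_mul.1 e)

/-- `z` in it -/
def zC : ↥X.Cg := ⟨z, Subgroup.mem_centralizer_singleton_iff.2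
  (Subgroup.mem_centralizer_singleton_iff.1 (X.t : Subgroup.centralizer ({z} : Set G)).2).symm⟩

/-- its image -/
abbrev zb : X.Cb := X.π X.zC

/-- the centraliser of the image -/
abbrev Hb : Subgroup X.Cb := Subgroup.centralizer {X.zb}

theorem tz_not_conj : ¬IsConj z (z * X.tG) := by
  have h := X.not_conj (r := X.ζ * X.t)
    (by rw [X.cv_mul, X.cv_ζ, X.cv_t, zero_add]; exact sigma_facts.2.2.2.2.2.2.2.2.2.2.2.2.2.1)
    (by rw [X.cv_mul, X.cv_ζ, X.cv_t, zero_add]; exact sigma_facts.2.2.2.2.2.2.2.2.2.1)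
  exact h

theorem conj_zb_iff (g : ↥X.Cg) : X.π g * X.zb * (X.π g)⁻¹ = X.zb ↔ (g : G) * z = z * g := by
  constructor
  · intro e
    rw [← map_inv, ← map_mul, ← map_mul] at e
    rcases X.π_eq e with e' | e'
    · have e'' : (g : G) * z * (g : G)⁻¹ = z := e'.symm
      exact mul_inv_eq_iff_eq_mul.1 e''
    · exfalso
      refine X.tz_not_conj (isConj_iff.2 ⟨g, ?_⟩)
      have e'' : z = (g : G) * z * (g : G)⁻¹ * X.tG := e'
      have htt : X.tG * X.tG = 1 := by rw [← sq, ← X.tG_order, pow_orderOf_eq_one]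
      calc (g : G) * z * (g : G)⁻¹ = (g : G) * z * (g : G)⁻¹ * (X.tG * X.tG) := by rw [htt, mul_one]
        _ = (g : G) * z * (g : G)⁻¹ * X.tG * X.tG := (mul_assoc _ _ _).symm
        _ = z * X.tG := congrArg (· * X.tG) e''.symm
  · intro e
    rw [← map_inv, ← map_mul, ← map_mul]
    congr 1
    exact Subtype.ext (mul_inv_eq_iff_eq_mul.2 e)

theorem mk_mem_Hb {g : ↥X.Cg} : X.π g ∈ X.Hb ↔ (g : G) * z = z * g := by
  rw [Subgroup.mem_centralizer_singleton_iff, ← X.conj_zb_iff, mul_inv_eq_iff_eq_mul]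

/-- the centraliser of `z` onto the centraliser of its image -/
noncomputable def ψ : ↥X.Ct →* ↥X.Hb :=
  MonoidHom.mk' (fun h => ⟨X.π (X.ι h), X.mk_mem_Hb.2 (Subgroup.mem_centralizer_singleton_iff.1 h.1.2)⟩)
    fun a b => Subtype.ext (by simp)

theorem ψ_surj : Function.Surjective X.ψ := by
  rintro ⟨x, hx⟩
  obtain ⟨g, rfl⟩ := QuotientGroup.mk'_surjective X.Nt x
  refine ⟨⟨⟨g, Subgroup.mem_centralizer_singleton_iff.2 (X.mk_mem_Hb.1 hx)⟩, X.mem_Cg.1 g.2⟩, rfl⟩

theorem ψ_eq {a b : ↥X.Ct} (h : X.ψ a = X.ψ b) :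
    b.1 = a.1 ∨ b.1 = a.1 * (X.t : Subgroup.centralizer ({z} : Set G)) := by
  rcases X.π_eq (congrArg Subtype.val h : X.π (X.ι a) = X.π (X.ι b)) with e | e
  · exact Or.inl (Subtype.ext e)
  · exact Or.inr (Subtype.ext e)

theorem t_mem : (X.t : Subgroup.centralizer ({z} : Set G)) ∈ X.Ct := by
  rw [Ct, Subgroup.mem_centralizer_singleton_iff]

/-- the sign on the centraliser of `z` -/
noncomputable def swHom : ↥X.Ct →* Multiplicative (ZMod 2) :=
  MonoidHom.mk' (fun h => Multiplicative.ofAdd (X.sw h.1)) fun a b => by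
    rw [Subgroup.coe_mul, X.sw_mul a.2 b.2]; rfl

theorem swHom_ker : X.ψ.ker ≤ X.swHom.ker := by
  intro h hh
  rcases X.ψ_eq (a := 1) (b := h) (by rw [map_one]; exact (MonoidHom.mem_ker.1 hh).symm) with e | e
  · rw [show h = 1 from Subtype.ext e]; exact Subgroup.one_mem _
  · rw [Subgroup.coe_one, one_mul] at e
    rw [MonoidHom.mem_ker]
    show Multiplicative.ofAdd (X.sw h.1) = 1
    rw [e, X.sw_t]; rfl

/-- the sign -/
noncomputable def χ : ↥X.Hb →* Multiplicative (ZMod 2) := X.ψ.liftOfSurjective X.ψ_surj ⟨X.swHom, X.swHom_ker⟩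

theorem χ_ψ (h : ↥X.Ct) : X.χ (X.ψ h) = Multiplicative.ofAdd (X.sw h.1) :=
  MonoidHom.liftOfRightInverse_comp_apply _ _ _ ⟨X.swHom, X.swHom_ker⟩ h

/-- the part of `Q` commuting with the involution -/
def CQ : Subgroup ↥Q := X.Ct.comap Q.subtype

theorem mem_CQ {q : Q} : q ∈ X.CQ ↔ bp v0 (X.cv q) = 0 := X.Q_Ct

/-- into the centraliser -/
noncomputable def jt : ↥X.CQ →* ↥X.Ct :=
  MonoidHom.mk' (fun q => ⟨(q.1 : Subgroup.centralizer ({z} : Set G)), q.2⟩) fun _ _ => rfl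

/-- and to the quotient -/
noncomputable def qb : ↥X.CQ →* X.Cb := (X.Hb.subtype.comp X.ψ).comp X.jt

theorem qb_eq {a b : ↥X.CQ} (h : X.qb a = X.qb b) : b.1 = a.1 ∨ b.1 = a.1 * X.t := by
  rcases X.ψ_eq (Subtype.ext h : X.ψ (X.jt a) = X.ψ (X.jt b)) with e | e
  · exact Or.inl (Subtype.ext e)
  · exact Or.inr (Subtype.ext e)

theorem s_CQ : X.s ∈ X.CQ := X.s_mem

theorem ζ_CQ : X.ζ ∈ X.CQ := by
  rw [X.mem_CQ, X.cv_ζ, ← X.cv_one]
  exact X.mem_CQ.1 X.CQ.one_mem

theorem qb_ζ : X.qb ⟨X.ζ, X.ζ_CQ⟩ = X.zb := rfl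

/-- the transfer -/
noncomputable def tr : X.Cb →* Multiplicative (ZMod 2) := MonoidHom.transfer X.χ

theorem tr_s : X.tr (X.qb ⟨X.s, X.s_CQ⟩) = Multiplicative.ofAdd 1 := by
  set sb := X.qb ⟨X.s, X.s_CQ⟩ with hsb
  have hsH : sb ∈ X.Hb := (X.ψ (X.jt ⟨X.s, X.s_CQ⟩)).2
  have hs2 : sb * sb = 1 := by
    rw [hsb, ← map_mul, show (⟨X.s, X.s_CQ⟩ : ↥X.CQ) * ⟨X.s, X.s_CQ⟩ = 1 from Subtype.ext X.s_sq, map_one]
  let JT : Subgroup ↥X.CQ := (Subgroup.centralizer {X.s}).comap X.CQ.subtype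
  have hev := Fi22Two.transfer_eval X.χ hsH (JT.map X.qb)
    (((X.D.b.es.1.1.to_subgroup X.CQ).to_subgroup JT).map X.qb)
    (by rintro _ ⟨q, -, rfl⟩; exact (X.ψ (X.jt q)).2)
    (by
      rintro _ ⟨q, hq, rfl⟩
      have e : q * ⟨X.s, X.s_CQ⟩ = ⟨X.s, X.s_CQ⟩ * q :=
        Subtype.ext (Subgroup.mem_centralizer_singleton_iff.1 hq)
      show X.qb q * sb = sb * X.qb q
      rw [hsb, ← map_mul, e, map_mul])
    (fun _ _ _ => sq_one_zmod2 _)
    (by
      intro g hg n hn h hmin hT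
      rcases (show n = 1 ∨ n = 2 ∨ 2 < n by omega) with rfl | rfl | hn2
      · exfalso
        -- the conjugate of the image of `z` commutes with everything in the small group
        have hconj : ∀ q ∈ JT, g⁻¹ * X.qb q * g ∈ X.Hb := by
          intro q hq
          obtain ⟨k, hk⟩ := hT _ (Subgroup.mem_map_of_mem _ hq)
          have e : g⁻¹ * X.qb q * g = (g⁻¹ * sb ^ 1 * g) ^ k * ((sb ^ k * g)⁻¹ * X.qb q * g) := by
            have hp : (g⁻¹ * sb ^ 1 * g) ^ k = g⁻¹ * sb ^ k * g := by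
              have h' := conj_pow (a := g⁻¹) (b := sb) (i := k)
              rw [inv_inv] at h'
              rw [pow_one, h']
            rw [hp]
            group
          rw [e]
          exact mul_mem (pow_mem h k) hk
        set w := g * X.zb * g⁻¹ with hw
        have hwc : ∀ q ∈ JT, Commute w (X.qb q) := by
          intro q hq
          have hc : g⁻¹ * X.qb q * g * X.zb = X.zb * (g⁻¹ * X.qb q * g) :=
            Subgroup.mem_centralizer_singleton_iff.1 (hconj q hq)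
          show g * X.zb * g⁻¹ * X.qb q = X.qb q * (g * X.zb * g⁻¹)
          calc g * X.zb * g⁻¹ * X.qb q = g * (X.zb * (g⁻¹ * X.qb q * g)) * g⁻¹ := by group
            _ = g * (g⁻¹ * X.qb q * g * X.zb) * g⁻¹ := by rw [hc]
            _ = _ := by group
        have hwH : w ∈ X.Hb := by
          rw [Subgroup.mem_centralizer_singleton_iff, ← X.qb_ζ]
          exact (hwc _ (Subgroup.mem_centralizer_singleton_iff.2 (X.ζ_comm X.s).symm)).eq
        obtain ⟨x, hx⟩ := X.ψ_surj ⟨w, hwH⟩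
        have hxc : ∀ q ∈ JT, MulAut.conjNormal x.1 q.1 = q.1 ∨ MulAut.conjNormal x.1 q.1 = q.1 * X.t := by
          intro q hq
          have e : X.ψ (X.jt q) = X.ψ (x * X.jt q * x⁻¹) := by
            refine Subtype.ext ?_
            rw [map_mul, map_mul, map_inv, Subgroup.coe_mul, Subgroup.coe_mul, Subgroup.coe_inv, hx]
            exact (mul_inv_eq_iff_eq_mul.2 (hwc q hq).eq).symm
          rcases X.ψ_eq e with e' | e'
          · exact Or.inl (Subtype.ext e')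
          · exact Or.inr (Subtype.ext e')
        have htv : ∀ (i : Fin 4) (k : ZMod 3) (q : Q), X.cv q = sm k (tv i) →
            ∃ hq : q ∈ X.CQ, (⟨q, hq⟩ : ↥X.CQ) ∈ JT := fun i k q hq =>
          ⟨X.mem_CQ.2 (hq ▸ (tv_perp i k).1), Subgroup.mem_centralizer_singleton_iff.2
            ((X.comm_cv q X.s).2 (by rw [bp_symm, hq, X.cv_s]; exact (tv_perp i k).2.2))⟩
        have hxQ : x.1 ∈ Q := X.mem_Q_of_comm x.2 fun i k q hq => by
          obtain ⟨hq', hJ⟩ := htv i k q hq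
          exact hxc _ hJ
        set r : Q := ⟨x.1, hxQ⟩ with hr
        have hcases := X.cv_of_comm (r := r) x.2
          (fun i k q hq => by
            obtain ⟨hq', hJ⟩ := htv i k q hq
            exact X.comm_of_mod (hxc _ hJ))
          (X.comm_of_mod (hxc ⟨X.s, X.s_CQ⟩ (Subgroup.mem_centralizer_singleton_iff.2 rfl)))
        obtain ⟨g0, rfl⟩ := QuotientGroup.mk'_surjective X.Nt g
        obtain ⟨r', hr', hr'v⟩ : ∃ r' : Q, ((r' : Subgroup.centralizer ({z} : Set G)) : G) = g0 * z * (g0 : G)⁻¹ ∧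
            (X.cv r' = X.cv r ∨ X.cv r' = X.cv r + v0) := by
          have e : X.π (g0 * X.zC * g0⁻¹) = X.π (X.ι x) := by
            rw [map_mul, map_mul, map_inv]; exact (congrArg Subtype.val hx).symm
          rcases X.π_eq e.symm with e' | e'
          · exact ⟨r, e'.symm, Or.inl rfl⟩
          · exact ⟨r * X.t, e'.symm, Or.inr (by rw [X.cv_mul, X.cv_t])⟩
        have hc : IsConj z ((r' : Subgroup.centralizer ({z} : Set G)) : G) := isConj_iff.2 ⟨g0, hr'.symm⟩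
        have h0 : X.cv r' = 0 := by
          have key : ∀ v, X.cv r' = v → cls v = (2, 0) → par v = 0 → False := fun v e h1 h2 =>
            X.not_conj (e ▸ h1) (e ▸ h2) hc
          have hσ := sigma_facts
          obtain ⟨-, -, -, -, -, -, -, pσ, pσ0, p0, -, cσ, cσ0, c0, -⟩ := hσ
          rcases hcases with e | e | e | e <;> rcases hr'v with e' | e' <;> rw [e] at e'
          · exact e'
          · exact (key _ (e'.trans (zero_add _)) c0 p0).elim
          · exact (key _ e' c0 p0).elim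
          · exact e'.trans (add_self6 _)
          · exact (key _ e' cσ pσ).elim
          · exact (key _ e' cσ0 pσ0).elim
          · exact (key _ e' cσ0 pσ0).elim
          · exact (key _ (e'.trans (by rw [add_assoc, add_self6, add_zero])) cσ pσ).elim
        rcases X.cv_eq_zero.1 h0 with e | e
        · refine X.D.setting.ne_one ?_
          rw [e] at hr'
          have h1 : (g0 : G) * z * (g0 : G)⁻¹ = 1 := hr'.symm
          rwa [mul_inv_eq_one, mul_eq_left] at h1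
        · rw [e] at hr'
          exact hg (X.mk_mem_Hb.2 (mul_inv_eq_iff_eq_mul.1 (show (g0 : G) * z * (g0 : G)⁻¹ = z from hr'.symm)))
      · rw [show (⟨g⁻¹ * sb ^ 2 * g, h⟩ : ↥X.Hb) = 1 from Subtype.ext (by
          show g⁻¹ * sb ^ 2 * g = 1
          rw [sq, hs2, mul_one, inv_mul_cancel]), map_one]
      · exfalso
        refine hmin 2 (by norm_num) hn2 ?_
        rw [sq, hs2, mul_one, inv_mul_cancel]
        exact one_mem _)
  show MonoidHom.transfer X.χ sb = _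
  rw [hev]
  show X.χ (X.ψ (X.jt ⟨X.s, X.s_CQ⟩)) = _
  rw [X.χ_ψ]
  exact congrArg _ X.sw_s

/-- the subgroup of index two -/
noncomputable def Kb : Subgroup X.Cb := X.tr.ker

theorem Kb_index : X.Kb.index = 2 := by
  rw [Kb, Subgroup.index_ker]
  have htop : X.tr.range = ⊤ := by
    refine eq_top_iff.2 fun a _ => ?_
    rcases (show ∀ a : Multiplicative (ZMod 2), a = 1 ∨ a = Multiplicative.ofAdd 1 by decide) a with rfl | rfl
    · exact one_mem _
    · exact ⟨_, X.tr_s⟩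
  rw [htop, Subgroup.card_top, Nat.card_eq_fintype_card]
  rfl

theorem s_not_Kb : X.qb ⟨X.s, X.s_CQ⟩ ∉ X.Kb := by
  rw [Kb, MonoidHom.mem_ker, X.tr_s]
  decide

/-- vectors orthogonal to the class on which the transfer is trivial -/
noncomputable def Z0 : Set Vec6 := {v | ∀ q : ↥X.CQ, X.cv q.1 = v → X.qb q ∈ X.Kb}

theorem ζ_Kb : X.zb ∈ X.Kb := by
  obtain ⟨a1, -, b1, -, hab, -⟩ := noncomm_wit
  set x : ↥X.CQ := ⟨LargeFischer.lift X.D.F (Pi.single (3 : Fin 6) ((1, 0) : W4)), X.mem_CQ.2 (by rw [X.cv_lift]; exact a1)⟩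
  set y : ↥X.CQ := ⟨LargeFischer.lift X.D.F (Pi.single (3 : Fin 6) ((0, 1) : W4)), X.mem_CQ.2 (by rw [X.cv_lift]; exact b1)⟩
  have e : x * y * x⁻¹ * y⁻¹ = ⟨X.ζ, X.ζ_CQ⟩ := Subtype.ext (by
    show x.1 * y.1 * x.1⁻¹ * y.1⁻¹ = X.ζ
    rw [X.conj_of_bp (by rw [X.cv_lift, X.cv_lift]; exact hab), X.ζ_comm, mul_inv_cancel_right])
  rw [Kb, MonoidHom.mem_ker, ← X.qb_ζ, ← e]
  simp only [map_mul, map_inv]
  rw [mul_comm (X.tr (X.qb x)), mul_inv_cancel_right, mul_inv_cancel]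

theorem qb_congr {a b : ↥X.CQ} (h : X.cv a.1 = X.cv b.1) (ha : X.qb a ∈ X.Kb) : X.qb b ∈ X.Kb := by
  rcases X.cv_congr h with e | e
  · rwa [show b = a from Subtype.ext e]
  · rw [show b = a * ⟨X.ζ, X.ζ_CQ⟩ from Subtype.ext e, map_mul, X.qb_ζ]
    exact mul_mem ha X.ζ_Kb

theorem Z0_add {a b : Vec6} (hpa : bp v0 a = 0) (hpb : bp v0 b = 0) (ha : a ∈ X.Z0) (hb : b ∈ X.Z0) :
    a + b ∈ X.Z0 := by
  intro q hq
  set x : ↥X.CQ := ⟨LargeFischer.lift X.D.F a, X.mem_CQ.2 (by rw [X.cv_lift]; exact hpa)⟩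
  set y : ↥X.CQ := ⟨LargeFischer.lift X.D.F b, X.mem_CQ.2 (by rw [X.cv_lift]; exact hpb)⟩
  refine X.qb_congr (a := x * y) (by rw [hq]; exact (X.cv_mul _ _).trans (by rw [X.cv_lift, X.cv_lift])) ?_
  rw [map_mul]
  exact mul_mem (ha x (X.cv_lift a)) (hb y (X.cv_lift b))

theorem Z0_conj {h : Subgroup.centralizer ({z} : Set G)} (hh : cact X.D.F h v0 = v0) {v : Vec6}
    (hv : bp v0 v = 0) : cact X.D.F h v ∈ X.Z0 ↔ v ∈ X.Z0 := by
  obtain ⟨r, hr⟩ := X.surj_Ct hh
  set x : ↥X.Ct := ⟨_, hr⟩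
  have hact : ∀ w, cact X.D.F x.1 w = cact X.D.F h w := fun w => by rw [cact_mul, X.D.cact_Q r.2]
  set q : ↥X.CQ := ⟨LargeFischer.lift X.D.F v, X.mem_CQ.2 (by rw [X.cv_lift]; exact hv)⟩ with hq
  set q' : ↥X.CQ := ⟨MulAut.conjNormal x.1 q.1, by
    show ((MulAut.conjNormal x.1 q.1 : Q) : Subgroup.centralizer ({z} : Set G)) ∈ X.Ct
    rw [MulAut.conjNormal_apply]
    exact X.Ct.mul_mem (X.Ct.mul_mem x.2 q.2) (X.Ct.inv_mem x.2)⟩ with hq'
  have hcv : X.cv q'.1 = cact X.D.F h v := by rw [hq', X.cv_conj, hact, hq, X.cv_lift]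
  have htr : X.tr (X.qb q') = X.tr (X.qb q) := by
    have e : X.ψ (X.jt q') = X.ψ x * X.ψ (X.jt q) * (X.ψ x)⁻¹ := by
      rw [← map_inv, ← map_mul, ← map_mul]
      exact congrArg X.ψ (Subtype.ext (MulAut.conjNormal_apply x.1 q.1))
    show X.tr (X.ψ (X.jt q') : X.Cb) = X.tr (X.ψ (X.jt q) : X.Cb)
    rw [e, Subgroup.coe_mul, Subgroup.coe_mul, Subgroup.coe_inv, map_mul, map_mul, map_inv, mul_comm (X.tr _),
      mul_inv_cancel_right]
  constructor
  · intro H p hp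
    refine X.qb_congr (a := q) (by rw [hp, hq, X.cv_lift]) ?_
    rw [Kb, MonoidHom.mem_ker, ← htr]
    exact H q' hcv
  · intro H p hp
    refine X.qb_congr (a := q') (by rw [hp, hcv]) ?_
    rw [Kb, MonoidHom.mem_ker, htr]
    exact H q (X.cv_lift v)

theorem Z0_zero : (0 : Vec6) ∈ X.Z0 := fun q hq =>
  X.qb_congr (a := 1) (by rw [hq]; exact X.cv_one) (by rw [map_one]; exact one_mem _)

theorem tail_perp : ∀ (i : Fin 4) (p : W4),
    bp v0 (Pi.single (up i) p) = 0 ∧ bp v1 (Pi.single (up i) p) = 0 := by decide +kernel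

theorem Z0_tail (i : Fin 4) (p : W4) : (Pi.single (up i) p : Vec6) ∈ X.Z0 := by
  obtain ⟨d, hd, hd0, hdv⟩ := dg_facts i
  obtain ⟨m, -, hm⟩ := X.D.F.diag d hd
  have hm0 : cact X.D.F m v0 = v0 := cact_eq X.D.F ((hm v0).trans (congrArg X.D.F.co hd0))
  have hstep : ∀ p : W4, (Pi.single (up i) (omk 1 p) : Vec6) ∈ X.Z0 ↔ (Pi.single (up i) p : Vec6) ∈ X.Z0 :=
    fun p => by
      rw [← hdv p, ← cact_eq X.D.F (hm _), X.Z0_conj hm0 (tail_perp i p).1]
  by_contra hp
  set q : W4 → ↥X.CQ := fun p => ⟨LargeFischer.lift X.D.F (Pi.single (up i) p),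
    X.mem_CQ.2 (by rw [X.cv_lift]; exact (tail_perp i p).1)⟩
  have hne : ∀ p : W4, (Pi.single (up i) p : Vec6) ∉ X.Z0 → X.tr (X.qb (q p)) = Multiplicative.ofAdd 1 := by
    intro p hp
    rcases (show ∀ a : Multiplicative (ZMod 2), a = 1 ∨ a = Multiplicative.ofAdd 1 by decide)
      (X.tr (X.qb (q p))) with e | e
    · refine absurd ?_ hp
      intro r hr
      exact X.qb_congr (a := q p) (by rw [hr, X.cv_lift]) e
    · exact e
  have h1 := hne _ fun h => hp ((hstep p).1 h)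
  have h2 := hne (omk 1 (omk 1 p)) fun h => hp ((hstep p).1 ((hstep (omk 1 p)).1 h))
  have h0 : X.tr (X.qb (q p * q (omk 1 p) * q (omk 1 (omk 1 p)))) = 1 := by
    refine MonoidHom.mem_ker.1 (X.qb_congr (a := 1) ?_ (by rw [map_one]; exact one_mem _))
    rw [Subgroup.coe_one, X.cv_one, Subgroup.coe_mul, Subgroup.coe_mul, X.cv_mul, X.cv_mul, X.cv_lift, X.cv_lift,
      X.cv_lift, ← Pi.single_add, ← Pi.single_add,
      (show ∀ p : W4, p + omk 1 p + omk 1 (omk 1 p) = 0 by decide) p, Pi.single_zero]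
  rw [map_mul, map_mul, map_mul, map_mul, hne p hp, h1, h2] at h0
  exact absurd h0 (by decide)

theorem Z0_supp (r : Vec6) (h0 : r 0 = 0) (h1 : r 1 = 0) : r ∈ X.Z0 ∧ bp v0 r = 0 := by
  have e : r = ∑ i : Fin 4, (Pi.single (up i) (r (up i)) : Vec6) := by
    conv_lhs => rw [← Finset.univ_sum_single r, sum_six, h0, h1, Pi.single_zero, Pi.single_zero, zero_add, zero_add]
  rw [e]
  refine Finset.sum_induction _ (fun v => v ∈ X.Z0 ∧ bp v0 v = 0) (fun a b ha hb => ⟨X.Z0_add ha.2 hb.2 ha.1 hb.1,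
    by rw [bp_add_right, ha.2, hb.2, add_zero]⟩) ⟨X.Z0_zero, by
      rw [← X.cv_one]; exact X.mem_CQ.1 X.CQ.one_mem⟩ fun i _ => ⟨X.Z0_tail i _, (tail_perp i _).1⟩

theorem Z0_vv (p : W4) : vv p ∈ X.Z0 := by
  obtain ⟨E, -, -, -, -, hsh⟩ := X.D.exists_shears X.hF X.hc
  obtain ⟨h, -, -, hh⟩ := hsh 1
  obtain ⟨he0, hex⟩ := shear_facts
  obtain ⟨q, r, hqr, hr0, hr1⟩ := hex p
  obtain ⟨hr, hrp⟩ := X.Z0_supp r hr0 hr1
  have hvp : ∀ p : W4, bp v0 (vv p) = 0 := by decide +kernel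
  have h2 : (Pi.single 2 q : Vec6) = Pi.single (up 0) q := rfl
  have hmem : vv p + r ∈ X.Z0 := by
    rw [← hqr, ← hh, X.Z0_conj ((hh v0).trans he0) (h2 ▸ (tail_perp 0 q).1), h2]
    exact X.Z0_tail 0 q
  have := X.Z0_add (by rw [bp_add_right, hvp, hrp, add_zero]) hrp hmem hr
  rwa [add_assoc, add_self6, add_zero] at this

/-- what of `Q` lies in the subgroup -/
theorem qb_Kb_iff (q : ↥X.CQ) : X.qb q ∈ X.Kb ↔ bp v1 (X.cv q.1) = 0 := by
  have key : ∀ q : ↥X.CQ, bp v1 (X.cv q.1) = 0 → X.qb q ∈ X.Kb := by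
    intro q hq
    set x := X.cv q.1 with hx
    set y : Vec6 := fun i => if i = 0 then x 0 else if i = 1 then x 1 else 0 with hy
    set r : Vec6 := x + y with hr
    have hr0 : r 0 = 0 := by
      rw [hr, Pi.add_apply, hy]; simpa using (show ∀ p : W4, p + p = 0 by decide) _
    have hr1 : r 1 = 0 := by
      rw [hr, Pi.add_apply, hy]; simpa using (show ∀ p : W4, p + p = 0 by decide) _
    obtain ⟨hrZ, hrp⟩ := X.Z0_supp r hr0 hr1
    have hr1p : bp v1 r = 0 := by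
      have e : r = ∑ i : Fin 4, (Pi.single (up i) (r (up i)) : Vec6) := by
        conv_lhs => rw [← Finset.univ_sum_single r, sum_six, hr0, hr1, Pi.single_zero, Pi.single_zero, zero_add,
          zero_add]
      rw [e]
      exact Finset.sum_induction _ (fun v => bp v1 v = 0) (fun a b ha hb => by rw [bp_add_right, ha, hb, add_zero])
        (by rw [← X.cv_one, ← X.cv_u, ← X.comm_cv]; simp) fun i _ => (tail_perp i _).2
    have hxy : x = y + r := by rw [hr, add_comm x y, ← add_assoc, add_self6, zero_add]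
    have hy0 : bp v0 y = 0 := by
      have := X.mem_CQ.1 q.2
      rwa [← hx, hxy, bp_add_right, hrp, add_zero] at this
    have hy1 : bp v1 y = 0 := by rwa [hxy, bp_add_right, hr1p, add_zero] at hq
    have hvv : y = vv (x 0) := by
      have h01 : x 0 = x 1 := (pair_split (x 0) (x 1) hy0).1 hy1
      funext i
      rcases (show ∀ i : Fin 6, i = 0 ∨ i = 1 ∨ 2 ≤ (i : ℕ) by decide) i with rfl | rfl | hi
      · simp [hy, vv]
      · simp [hy, vv, h01]
      · have h0 : i ≠ 0 := fun e => by rw [e] at hi; exact absurd hi (by decide)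
        have h1 : i ≠ 1 := fun e => by rw [e] at hi; exact absurd hi (by decide)
        simp [hy, vv, h0, h1, show ¬ (i : ℕ) < 2 by omega]
    exact X.Z0_add hy0 hrp (hvv ▸ X.Z0_vv _) hrZ q (by rw [← hx, ← hxy])
  refine ⟨fun h => ?_, key q⟩
  rcases zmod2_cases (bp v1 (X.cv q.1)) with e | e
  · exact e
  · exfalso
    refine X.s_not_Kb ?_
    have h' : X.qb (q * ⟨X.s, X.s_CQ⟩) ∈ X.Kb := key _ (by
      rw [Subgroup.coe_mul, X.cv_mul, bp_add_right, e, X.cv_s, sigma_facts.2.1]; rfl)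
    rw [map_mul] at h'
    exact (Subgroup.mul_mem_cancel_left _ h).1 h'

end Setup

end Cfsg.Agent.Fi22Aut
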